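import Groth.Agent.GrSysLib.ThickSys
import Groth.Agent.ProjFormLib.Proj
import Groth.Agent.AmpleDevLib.Pull
import Groth.Agent.CurveVBLib.Basic
import Groth.Agent.CurvLib.Divisor
import Groth.Agent.FibVanLib.GlobGen
import Groth.Agent.MiscFlat6.TensorGG
import Groth.Agent.MiscFlat6.AmpleGen

/-!
# Uniform vanishing and global generation of twists on the levels of an adic system
-/

universe u

open CategoryTheory CategoryTheory.Limits AlgebraicGeometry Opposite TopologicalSpace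

noncomputable section

namespace GrSysLib

section Twist

variable {Z Y : Scheme.{u}}

lemma nonempty_tensorPow_congr {L L' : Z.Modules} (e : L ≅ L') :
    ∀ n : ℕ, Nonempty (CohB1.tensorPow L n ≅ CohB1.tensorPow L' n)
  | 0 => ⟨Iso.refl _⟩
  | n + 1 => by
    obtain ⟨e'⟩ := nonempty_tensorPow_congr e n
    exact ⟨HilbPolyLib.congrLeft e' _ ≪≫ HilbPolyLib.congrRight _ e⟩

/-- Twisting commutes with direct image along a closed immersion. -/
lemma nonempty_twist_push (f : Z ⟶ Y) {E : Y.Modules} (hE : PicF.IsInvertible E) {E' : Z.Modules}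
    (e : (Scheme.Modules.pullback f).obj E ≅ E') (n : ℕ) (M : Z.Modules) :
    Nonempty (CohB1.tensorMod (CohB1.tensorPow E n) ((Pf f).obj M) ≅
      (Pf f).obj (CohB1.tensorMod (CohB1.tensorPow E' n) M)) := by
  obtain ⟨φ, -⟩ := AmpleDevLib.exists_pullPowIso f hE n
  obtain ⟨e'⟩ := nonempty_tensorPow_congr e n
  have hP : FlatMod.IsFinLocFree (CohB1.tensorPow E n) := CurveVBLib.isFinLocFree_of_rank
    (CurvLib.locFree_of_isInvertible (AmpleThLib.tensorPow_isInvertible hE n))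
  exact ⟨@asIso _ _ _ _ (ProjFormLib.projApp f (CohB1.tensorPow E n) M) (ProjFormLib.isIso_projApp f hP M) ≪≫
    (Pf f).mapIso (HilbPolyLib.congrLeft (φ ≪≫ e') M)⟩

lemma isQCoh_twist {L : Z.Modules} (hL : PicF.IsInvertible L) (n : ℕ) (M : Z.Modules) [Coh.IsQCoh M] :
    Coh.IsQCoh (CohB1.tensorMod (CohB1.tensorPow L n) M) :=
  have := MiscFlat6.isQCoh_tensor (M := M) (AmpleThLib.tensorPow_isInvertible hL n)
  QCohLib.isQCoh_of_iso (HilbPolyLib.swapIso M _)

lemma subsingleton_twist_push (f : Z ⟶ Y) [IsClosedImmersion f] {E : Y.Modules} (hE : PicF.IsInvertible E)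
    {E' : Z.Modules} (hE' : PicF.IsInvertible E') (e : (Scheme.Modules.pullback f).obj E ≅ E') (n : ℕ)
    (M : Z.Modules) [Coh.IsQCoh M] (q : ℕ)
    (h : Subsingleton (Coh.HH Z (CohB1.tensorMod (CohB1.tensorPow E' n) M) q)) :
    Subsingleton (Coh.HH Y (CohB1.tensorMod (CohB1.tensorPow E n) ((Pf f).obj M)) q) := by
  obtain ⟨φ⟩ := nonempty_twist_push f hE e n M
  have := isQCoh_twist hE' n M
  obtain ⟨u⟩ := QCohLib.nonempty_HH_push f (CohB1.tensorMod (CohB1.tensorPow E' n) M) q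
  have : Subsingleton (Coh.HH Y ((Coh.push f).obj (CohB1.tensorMod (CohB1.tensorPow E' n) M)) q) :=
    u.symm.toEquiv.subsingleton
  exact SerreVanLib.subsingleton_HH_of_iso φ q this

/-- A map out of the direct image of a globally generated module which kills global sections is zero. -/
lemma eq_zero_push_gg (f : Z ⟶ Y) [IsClosedImmersion f] {M : Z.Modules} [Coh.IsQCoh M]
    (h : Curv2.IsGloballyGenerated M) {N : Y.Modules} (q : (Pf f).obj M ⟶ N)
    (hq : ∀ u : Γ((Pf f).obj M, ⊤), q.app ⊤ u = 0) : q = 0 := by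
  have : Coh.IsQCoh ((Pf f).obj M) := QCohLib.isQCoh_pushforward f M
  refine MiscFlat6.eq_zero_of_affine_cover (fun U : Y.affineOpens => U.1) (fun U => U.2) (fun y => ?_) _ q fun U w => ?_
  · obtain ⟨U, hU, hy⟩ := QCohLib.exists_affine_nhd y
    exact ⟨⟨U, hU⟩, hy⟩
  obtain ⟨ι, p₀, hp₀⟩ := h
  let p : (∐ fun _ : ι => Coh.structureModule Z) ⟶ M := p₀
  have hp : Epi p := hp₀
  obtain ⟨t, c, hw⟩ := FibVanLib.exists_eq_sum_of_epi (F := M) p (D := f ⁻¹ᵁ U.1) (U.2.preimage f)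
    (show Γ(M, f ⁻¹ᵁ U.1) from w)
  subst hw
  let g : ι → (Coh.structureModule Z ⟶ M) := fun j => Sigma.ι (fun _ : ι => Coh.structureModule Z) j ≫ p
  refine (map_sum (q.app U.1).hom (fun j => (show Γ((Pf f).obj M, U.1) from (g j).app (f ⁻¹ᵁ U.1) (c j))) t).trans
    (Finset.sum_eq_zero fun j _ => ?_)
  obtain ⟨d, hd⟩ := f.app_surjective U.1 U.2 (c j)
  let s₀ : Γ(M, ⊤) := FibVanLib.secOf (g j)
  let σ : Γ((Pf f).obj M, ⊤) := s₀
  have e : (show Γ((Pf f).obj M, U.1) from (g j).app (f ⁻¹ᵁ U.1) (c j)) =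
      d • ((Pf f).obj M).presheaf.map (homOfLE (le_top : U.1 ≤ ⊤)).op σ := by
    rw [QCohLib.push_smul, FibVanLib.app_eq_smul, hd]
    rfl
  show q.app U.1 _ = 0
  rw [e, QCohLib.app_smul, QCohLib.app_map]
  erw [hq σ]
  rw [map_zero, smul_zero]

lemma eq_zero_of_gg' {M N : Z.Modules} (h : Curv2.IsGloballyGenerated M) (q : M ⟶ N)
    (hq : ∀ u : Γ(M, ⊤), q.app ⊤ u = 0) : q = 0 := by
  obtain ⟨ι, p, hp⟩ := h
  refine (cancel_epi p).1 (Eq.trans ?_ comp_zero.symm)
  refine Cofan.IsColimit.hom_ext (SheafOfModules.isColimitFreeCofan ι) _ _ fun i => ?_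
  refine Eq.trans ?_ comp_zero.symm
  let e : Coh.structureModule Z ⟶ M := SheafOfModules.ιFree i ≫ p
  show e ≫ q = 0
  refine Scheme.Modules.hom_ext _ _ fun V => ConcreteCategory.hom_ext _ _ fun c => ?_
  show q.app V (e.app V c) = 0
  refine (congrArg (q.app V) (FibVanLib.app_eq_smul e V c)).trans ?_
  refine (QCohLib.app_smul q V (show Γ(Z, V) from c) _).trans ?_
  rw [QCohLib.app_map, hq, map_zero, smul_zero]

end Twist

section Main

variable {A : Type u} [CommRing A] [IsNoetherianRing A] {J : Ideal A} (T : Thick A J)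
  (F : ∀ k, (T.X k).Modules) (hF : ∀ k, Coh.IsCoh (F k))
  (ψ : ∀ k, (Scheme.Modules.pullback (T.i k)).obj (F (k + 1)) ≅ F k)
  (L : ∀ k, (T.X k).Modules) (hL : ∀ k, PicF.IsInvertible (L k))
  (φ : ∀ k, (Scheme.Modules.pullback (T.i k)).obj (L (k + 1)) ≅ L k) (hA : CohB1.IsAmple (L 0))

include φ in
omit [IsNoetherianRing A] in
lemma nonempty_L_zero : ∀ k, Nonempty ((Scheme.Modules.pullback (toLvl T k)).obj (L k) ≅ L 0)
  | 0 => ⟨(Scheme.Modules.pullbackId (T.X 0)).app (L 0)⟩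
  | k + 1 => by
    obtain ⟨e⟩ := nonempty_L_zero k
    exact ⟨((Scheme.Modules.pullbackComp (toLvl T k) (T.i k)).app (L (k + 1))).symm ≪≫
      (Scheme.Modules.pullback (toLvl T k)).mapIso (φ k) ≪≫ e⟩

include hF ψ hL φ hA in
/-- **Uniform vanishing and global generation.** -/
theorem exists_twist_bound :
    ∃ n₀ : ℕ, ∀ n, n₀ ≤ n → ∀ k,
      (∀ q, 0 < q → Subsingleton (Coh.HH (T.X k) (CohB1.tensorMod (CohB1.tensorPow (L k) n) (F k)) q)) ∧
        Curv2.IsGloballyGenerated (CohB1.tensorMod (CohB1.tensorPow (L k) n) (F k)) := by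
  have : ∀ k, Coh.IsQCoh (F k) := fun k => (hF k).1
  obtain ⟨r, a, hspan⟩ : ∃ (r : ℕ) (a : Fin r → A), Ideal.span (Set.range a) = J :=
    Submodule.fg_iff_exists_fin_generating_family.1 (IsNoetherian.noetherian J)
  have ha : ∀ i, a i ∈ J := fun i => hspan ▸ Ideal.subset_span ⟨i, rfl⟩
  obtain ⟨n₁, h₁⟩ := exists_uniform_vanishing (T.X 0 ↘ Spec (CommRingCat.of A)) (hL 0) hA r _
    (isGenCoh_thickSys T F ψ a ha (hF 0))
  obtain ⟨n₂, h₂⟩ := exists_vanishing_le (T.X 0 ↘ Spec (CommRingCat.of A)) (hL 0) hA (fun _ => F 0) (fun _ => hF 0) 0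
  have : CompactSpace (T.X 0) := QuasiCompact.compactSpace_of_compactSpace (T.X 0 ↘ Spec (CommRingCat.of A))
  have : (T.X 0).IsSeparated := ⟨by
    rw [← terminal.comp_from (T.X 0 ↘ Spec (CommRingCat.of A))]
    infer_instance⟩
  obtain ⟨n₃, h₃⟩ := MiscFlat6.eventually_gg_of_isAmple hA (F 0) (hF 0)
  refine ⟨max n₁ (max n₂ n₃), fun n hn => ?_⟩
  simp only [max_le_iff] at hn
  have hP0 : PicF.IsInvertible (CohB1.tensorPow (L 0) n) := AmpleThLib.tensorPow_isInvertible (hL 0) n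
  have hgg0 : Curv2.IsGloballyGenerated (CohB1.tensorMod (CohB1.tensorPow (L 0) n) (F 0)) :=
    MiscFlat6.isGloballyGenerated_of_iso (HilbPolyLib.swapIso _ _) (h₃ n hn.2.2)
  have hggK : ∀ k, Curv2.IsGloballyGenerated
      (CohB1.tensorMod (CohB1.tensorPow (L 0) n) (kerObj T F ψ a ha k)) := fun k => by
    refine MiscFlat6.isGloballyGenerated_of_cancel _ fun N
      (q : (CurvLib.tensorLeft' (CohB1.tensorPow (L 0) n)).obj (kerObj T F ψ a ha k) ⟶ N) hq => ?_
    have := epi_kerπ T F ψ a ha k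
    let TL := CurvLib.tensorLeft' (CohB1.tensorPow (L 0) n)
    have : Epi (TL.map (kerπ T F ψ a ha k)) :=
      (HilbPolyLib.shortExact_tensor hP0 (DevissLib.imCokSeq_shortExact (relT T F ψ a ha k))).epi_g
    refine (cancel_epi (TL.map (kerπ T F ψ a ha k))).1 (Eq.trans ?_ comp_zero.symm)
    have e : 𝟙 (word T F r k) = ∑ w, biproduct.π (fun _ : (Fin k → Fin r) => F 0) w ≫
        biproduct.ι (fun _ : (Fin k → Fin r) => F 0) w :=
      (biproduct.total (f := fun _ : (Fin k → Fin r) => F 0)).symm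
    rw [← Category.id_comp (TL.map (kerπ T F ψ a ha k)), ← TL.map_id, e, Functor.map_sum, Preadditive.sum_comp]
    refine (Preadditive.sum_comp _ _ _).trans (Finset.sum_eq_zero fun w _ => ?_)
    rw [TL.map_comp, Category.assoc, Category.assoc]
    refine (congrArg (fun χ => _ ≫ χ) ?_).trans comp_zero
    refine eq_zero_of_gg' hgg0 _ fun u => ?_
    exact hq _
  intro k
  induction k with
  | zero => exact ⟨fun q hq => h₂ n hn.2.1 0 le_rfl q hq, hgg0⟩
  | succ k ih =>
    obtain ⟨ν, hz, hS⟩ := exists_step T F ψ a ha (hF 0) hspan k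
    obtain ⟨e⟩ := nonempty_L_zero T L φ (k + 1)
    have hP : PicF.IsInvertible (CohB1.tensorPow (L (k + 1)) n) := AmpleThLib.tensorPow_isInvertible (hL _) n
    have hSE := HilbPolyLib.shortExact_tensor hP hS
    have hSA := QCohLib.toAbF_shortExact hSE
    have hKq : Coh.IsQCoh (kerObj T F ψ a ha (k + 1)) := (isCoh_kerObj T F ψ a ha (hF 0) (k + 1)).1
    have hK : ∀ q, 0 < q → Subsingleton (Coh.HH (T.X (k + 1)) (CohB1.tensorMod (CohB1.tensorPow (L (k + 1)) n)
        ((Pf (toLvl T (k + 1))).obj (kerObj T F ψ a ha (k + 1)))) q) := fun q hq =>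
      subsingleton_twist_push (toLvl T (k + 1)) (hL _) (hL 0) e n _ q (h₁ n hn.1 (k + 1) q hq)
    refine ⟨fun q hq => ⟨fun x y => ?_⟩, ?_⟩
    · have hFk : Subsingleton (Coh.HH (T.X (k + 1)) (CohB1.tensorMod (CohB1.tensorPow (L (k + 1)) n)
          ((Pf (T.i k)).obj (F k))) q) := subsingleton_twist_push (T.i k) (hL _) (hL k) (φ k) n _ q (ih.1 q hq)
      have hzero : ∀ z : Coh.HH (T.X (k + 1)) (CohB1.tensorMod (CohB1.tensorPow (L (k + 1)) n) (F (k + 1))) q,
          z = 0 := fun z => by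
        obtain ⟨w, rfl⟩ := AtlasCoh.hExact₂ hSA q z (@Subsingleton.elim _ hFk _ _)
        have hw : w = 0 := @Subsingleton.elim _ (hK q hq) _ _
        rw [hw]
        exact map_zero _
      rw [hzero x, hzero y]
    · refine MiscFlat6.isGloballyGenerated_of_cancel _ fun N
        (q : (CurvLib.tensorLeft' (CohB1.tensorPow (L (k + 1)) n)).obj (F (k + 1)) ⟶ N) hq => ?_
      obtain ⟨eK⟩ := nonempty_twist_push (toLvl T (k + 1)) (hL _) e n (kerObj T F ψ a ha (k + 1))
      obtain ⟨eF⟩ := nonempty_twist_push (T.i k) (hL _) (φ k) n (F k)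
      have hs : Function.Surjective (((CurvLib.tensorLeft' (CohB1.tensorPow (L (k + 1)) n)).map
          (res' T F ψ k)).app ⊤) := fun s => by
        have h1 : Subsingleton (QCohLib.HU ((QCohLib.toAbF _).obj (CohB1.tensorMod (CohB1.tensorPow (L (k + 1)) n)
            ((Pf (toLvl T (k + 1))).obj (kerObj T F ψ a ha (k + 1))))) 1 ⊤) :=
          (QCohLib.subsingleton_H_iff _ _).1 (hK 1 one_pos)
        exact @QCohLib.exists_lift_of_subsingleton _ _ hSA ⊤ h1 s
      have : Coh.IsQCoh (kerObj T F ψ a ha (k + 1)) := hKq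
      have hTK : Coh.IsQCoh (CohB1.tensorMod (CohB1.tensorPow (L 0) n) (kerObj T F ψ a ha (k + 1))) :=
        isQCoh_twist (hL 0) n _
      have hTF : Coh.IsQCoh (CohB1.tensorMod (CohB1.tensorPow (L k) n) (F k)) := isQCoh_twist (hL k) n _
      let TL := CurvLib.tensorLeft' (CohB1.tensorPow (L (k + 1)) n)
      have hf : TL.map ν ≫ q = 0 := by
        refine (cancel_epi eK.inv).1 (Eq.trans ?_ comp_zero.symm)
        refine eq_zero_push_gg (toLvl T (k + 1)) (hggK (k + 1)) _ fun u => ?_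
        exact hq _
      have hge := hSE.epi_g
      obtain ⟨q', hq'⟩ : ∃ q', TL.map (res' T F ψ k) ≫ q' = q :=
        ⟨hSE.exact.desc q hf, hSE.exact.g_desc q hf⟩
      have h0 : q' = 0 := by
        refine (cancel_epi eF.inv).1 (Eq.trans ?_ comp_zero.symm)
        refine eq_zero_push_gg (T.i k) ih.2 _ fun u => ?_
        obtain ⟨v, hv⟩ := hs (eF.inv.app ⊤ u)
        have := hq v
        rw [← hq'] at this
        show q'.app ⊤ (eF.inv.app ⊤ u) = 0
        rw [← hv]
        exact this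
      rw [← hq', h0, comp_zero]
      rfl

end Main

end GrSysLib

end
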