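import Groth.Agent.GrSysLib.Thick
import Groth.Agent.ConsLib.ModLoci
import Groth.Agent.QCohLib.Push
import Mathlib.RingTheory.Ideal.Operations

/-!
# The kernels of a compatible system of modules on an adic system, as a graded system on level zero
-/

universe u

open CategoryTheory CategoryTheory.Limits AlgebraicGeometry Opposite TopologicalSpace

noncomputable section

namespace GrSysLib

/-- Direct image. -/
abbrev Pf {Z Y : Scheme.{u}} (f : Z ⟶ Y) : Z.Modules ⥤ Y.Modules := Scheme.Modules.pushforward f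

section Closed

variable {Z Y : Scheme.{u}} (f : Z ⟶ Y) [IsClosedImmersion f]

lemma push_map_eq_zero {M N : Z.Modules} (φ : M ⟶ N) (h : (Pf f).map φ = 0) : φ = 0 := by
  refine Scheme.Modules.hom_ext _ _ fun U => ConcreteCategory.hom_ext _ _ fun x => ?_
  obtain ⟨O, hO, hU⟩ := f.isClosedEmbedding.isInducing.isOpen_iff.mp U.2
  have e : U = f ⁻¹ᵁ ⟨O, hO⟩ := Opens.ext hU.symm
  subst e
  exact congrArg (fun ψ : (Pf f).obj M ⟶ (Pf f).obj N => ψ.app ⟨O, hO⟩ x) h

lemma epi_push {M N : Z.Modules} [Coh.IsQCoh M] [Coh.IsQCoh N] (φ : M ⟶ N) [Epi φ] : Epi ((Pf f).map φ) := by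
  have : Coh.IsQCoh ((Pf f).obj N) := QCohLib.isQCoh_pushforward f N
  refine epi_of_surjective_on_cover _ (fun U : Y.affineOpens => U.1) (fun U => U.2) (fun y => ?_) fun U => ?_
  · obtain ⟨U, hU, hy⟩ := QCohLib.exists_affine_nhd y
    exact ⟨⟨U, hU⟩, hy⟩
  · exact FormalLib.app_surjective_of_epi M φ (U.2.preimage f)

lemma mono_push {M N : Z.Modules} (φ : M ⟶ N) [Mono φ] : Mono ((Pf f).map φ) := by
  have : (Pf f).IsRightAdjoint := (Scheme.Modules.pullbackPushforwardAdjunction f).isRightAdjoint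
  infer_instance

lemma shortExact_push {S : ShortComplex Z.Modules} (hS : S.ShortExact) [Coh.IsQCoh S.X₂] [Coh.IsQCoh S.X₃] :
    (S.map (Pf f)).ShortExact := by
  have : (Pf f).IsRightAdjoint := (Scheme.Modules.pullbackPushforwardAdjunction f).isRightAdjoint
  have := hS.mono_f
  have := hS.epi_g
  have he : Epi (S.map (Pf f)).g := epi_push f S.g
  have hm : Mono (S.map (Pf f)).f := mono_push f S.f
  exact { exact := ShortComplex.exact_of_f_is_kernel _
            ((KernelFork.ofι S.f S.zero).mapIsLimit hS.fIsKernel (Pf f)) }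

end Closed

lemma isCoh_biproduct {Z : Scheme.{u}} [IsLocallyNoetherian Z] {ι : Type} [Finite ι] {M : Z.Modules}
    (hM : Coh.IsCoh M) : Coh.IsCoh (⨁ fun _ : ι => M) := by
  have : Coh.IsQCoh M := hM.1
  let := Fintype.ofFinite ι
  obtain ⟨n, ⟨e⟩⟩ : ∃ n, Nonempty (ι ≃ Fin n) := ⟨_, ⟨Fintype.equivFin ι⟩⟩
  refine QCohLib.isCoh_of_iso (biproduct.whiskerEquiv (f := fun _ : ι => M) (g := fun _ : Fin n => M) e fun _ => Iso.refl M).symm ?_
  clear e
  induction n with
  | zero =>
    refine DevissLib.isCoh_of_isZero ((IsZero.iff_id_eq_zero _).2 ?_)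
    exact biproduct.hom_ext _ _ fun i => i.elim0
  | succ n ih =>
    let φ : M ⊞ (⨁ fun _ : Fin n => M) ⟶ ⨁ fun _ : Fin (n + 1) => M :=
      biprod.desc (biproduct.ι (fun _ : Fin (n + 1) => M) 0) (biproduct.desc fun i => biproduct.ι (fun _ : Fin (n + 1) => M) i.succ)
    have : Epi φ := Preadditive.epi_of_cancel_zero _ fun g hg => by
      refine biproduct.hom_ext' _ _ fun i => ?_
      rw [comp_zero]
      cases i using Fin.cases with
      | zero =>
        have := congrArg (fun t => biprod.inl ≫ t) hg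
        simpa [φ] using this
      | succ i =>
        have := congrArg (fun t => biproduct.ι (fun _ : Fin n => M) i ≫ biprod.inr ≫ t) hg
        simpa [φ] using this
    have hc := DevissLib.isCoh_biprod hM ih
    refine ⟨?_, QCohLib.isFT_of_epi φ hc.2⟩
    have : Coh.IsQCoh (∐ fun _ : ULift.{u} (Fin (n + 1)) => M) := QCohLib.isQCoh_sigma _ fun _ => ‹_›
    exact QCohLib.isQCoh_of_iso ((biproduct.isoCoproduct _).symm ≪≫
      biproduct.whiskerEquiv Equiv.ulift fun _ => Iso.refl M)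

/-- Products of `n` of the generators span the `n`-th power. -/
theorem le_of_prod_mem {A : Type u} [CommRing A] {r : ℕ} (a : Fin r → A) :
    ∀ (n : ℕ) (Q : Ideal A), (∀ w : Fin n → Fin r, ∏ i, a (w i) ∈ Q) → Ideal.span (Set.range a) ^ n ≤ Q
  | 0, Q, h => by
    have h1 := h Fin.elim0
    rw [Fin.prod_univ_zero] at h1
    rw [pow_zero, Ideal.one_eq_top, top_le_iff, Q.eq_top_iff_one]
    exact h1
  | n + 1, Q, h => by
    rw [pow_succ', Ideal.mul_le]
    intro c hc d hd
    have hcomap : c ∈ Q.colon (Ideal.span (Set.range a) ^ n : Ideal A) := by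
      refine (Ideal.span_le.2 ?_) hc
      rintro _ ⟨i, rfl⟩
      rw [SetLike.mem_coe, Submodule.mem_colon]
      intro p hp
      exact le_of_prod_mem a n (Submodule.comap (LinearMap.mulLeft A (a i)) Q) (fun w => by
        have := h (Fin.cons i w)
        rw [Fin.prod_univ_succ] at this
        simpa using this) hp
    exact Submodule.mem_colon.1 hcomap d hd

section Sys

open FormalLib (smulMod_mul)

variable {A : Type u} [CommRing A] {J : Ideal A} (T : Thick A J) (F : ∀ k, (T.X k).Modules)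
  (ψ : ∀ k, (Scheme.Modules.pullback (T.i k)).obj (F (k + 1)) ≅ F k)

/-- The restriction to the previous level. -/
def res' (k : ℕ) : F (k + 1) ⟶ (Pf (T.i k)).obj (F k) :=
  (Scheme.Modules.pullbackPushforwardAdjunction (T.i k)).unit.app (F (k + 1)) ≫ (Pf (T.i k)).map (ψ k).hom

lemma smulFamily_res' (k : ℕ) : Formal.smulFamily (J ^ (k + 1)) (F (k + 1)) ≫ res' T F ψ k = 0 := by
  rw [res', ← Category.assoc, smulFamily_unit (T.i k) (comp_over T _ _ (sq_i T k)) _
    (fun b hb => toGlobal_eq_zero T k hb), zero_comp]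

variable [∀ k, Coh.IsQCoh (F k)]

lemma isIso_desc_res' (k : ℕ) : IsIso (cokernel.desc _ (res' T F ψ k) (smulFamily_res' T F ψ k)) := by
  have := isIso_desc_unit (T.i k) (comp_over T _ _ (sq_i T k)) _ (fun b hb => toGlobal_eq_zero T k hb)
    (ker_le T _ _ (sq_i T k)) (F (k + 1))
  have e : cokernel.desc _ (res' T F ψ k) (smulFamily_res' T F ψ k) = cokernel.desc _ _
      (smulFamily_unit (T.i k) (comp_over T _ _ (sq_i T k)) (J ^ (k + 1)) (fun b hb => toGlobal_eq_zero T k hb)
        (F (k + 1))) ≫ (Pf (T.i k)).map (ψ k).hom := by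
    refine (cancel_epi (cokernel.π (Formal.smulFamily (J ^ (k + 1)) (F (k + 1))))).1 ?_
    rw [cokernel.π_desc, cokernel.π_desc_assoc]
    rfl
  rw [e]
  exact IsIso.comp_isIso' this inferInstance

lemma epi_res' (k : ℕ) : Epi (res' T F ψ k) := by
  have := epi_unit (T.i k) (comp_over T _ _ (sq_i T k)) _ (fun b hb => toGlobal_eq_zero T k hb)
    (ker_le T _ _ (sq_i T k)) (F (k + 1))
  exact @epi_comp _ _ _ _ _ _ this _ inferInstance

/-- Multiplication by an element of `J`, raising the level. -/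
def tauT (k : ℕ) (a : A) (ha : a ∈ J) : (Pf (T.i k)).obj (F k) ⟶ F (k + 1) :=
  haveI := isIso_desc_res' T F ψ k
  inv (cokernel.desc _ (res' T F ψ k) (smulFamily_res' T F ψ k)) ≫
    cokernel.desc _ (Formal.smulMod A (F (k + 1)) a) (FormalProLib.smulFamily_comp _ fun b hb => by
      show Formal.smulMod A _ b ≫ Formal.smulMod A _ a = 0
      rw [← smulMod_mul]
      exact smulMod_eq_zero _ (fun c hc => toGlobal_eq_zero T (k + 1) hc) _
        (pow_succ' J (k + 1) ▸ Ideal.mul_mem_mul ha hb))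

lemma res'_tauT (k : ℕ) (a : A) (ha : a ∈ J) :
    res' T F ψ k ≫ tauT T F ψ k a ha = Formal.smulMod A (F (k + 1)) a := by
  have := isIso_desc_res' T F ψ k
  refine Eq.trans (congrArg (fun φ => φ ≫ tauT T F ψ k a ha)
    (cokernel.π_desc _ (res' T F ψ k) (smulFamily_res' T F ψ k)).symm) ?_
  rw [tauT, Category.assoc, IsIso.hom_inv_id_assoc, cokernel.π_desc]

/-- Direct images compose. -/
def cIso (k : ℕ) (G : (T.X 0).Modules) :
    (Pf (T.i k)).obj ((Pf (toLvl T k)).obj G) ≅ (Pf (toLvl T (k + 1))).obj G :=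
  (Scheme.Modules.pushforwardComp (toLvl T k) (T.i k)).app G

omit [∀ k, Coh.IsQCoh (F k)] in
lemma cIso_hom_nat (k : ℕ) {G G' : (T.X 0).Modules} (φ : G ⟶ G') :
    (Pf (T.i k)).map ((Pf (toLvl T k)).map φ) ≫ (cIso T k G').hom = (cIso T k G).hom ≫ (Pf (toLvl T (k + 1))).map φ :=
  (Scheme.Modules.pushforwardComp (toLvl T k) (T.i k)).hom.naturality φ

omit [∀ k, Coh.IsQCoh (F k)] in
lemma cIso_inv_nat (k : ℕ) {G G' : (T.X 0).Modules} (φ : G ⟶ G') :
    (Pf (toLvl T (k + 1))).map φ ≫ (cIso T k G').inv = (cIso T k G).inv ≫ (Pf (T.i k)).map ((Pf (toLvl T k)).map φ) :=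
  (Scheme.Modules.pushforwardComp (toLvl T k) (T.i k)).inv.naturality φ

/-- The restriction to level zero. -/
def rhoT : ∀ k, F k ⟶ (Pf (toLvl T k)).obj (F 0)
  | 0 => (Scheme.Modules.pushforwardId (T.X 0)).inv.app (F 0)
  | k + 1 => res' T F ψ k ≫ (Pf (T.i k)).map (rhoT k) ≫
      (cIso T k (F 0)).hom

lemma epi_rhoT (k : ℕ) : Epi (rhoT T F ψ k) := by
  induction k with
  | zero =>
    show Epi ((Scheme.Modules.pushforwardId (T.X 0)).inv.app (F 0))
    infer_instance
  | succ k ih =>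
    have := epi_res' T F ψ k
    have : Coh.IsQCoh ((Pf (toLvl T k)).obj (F 0)) := QCohLib.isQCoh_pushforward _ _
    have : Epi ((Pf (T.i k)).map (rhoT T F ψ k)) := epi_push _ _
    exact @epi_comp _ _ _ _ _ _ (epi_res' T F ψ k) _ (@epi_comp _ _ _ _ _ _ this _ inferInstance)

variable {r : ℕ} (a : Fin r → A) (ha : ∀ i, a i ∈ J)

/-- Multiplication by a product of generators. -/
def muT : ∀ k, (Fin k → Fin r) → ((Pf (toLvl T k)).obj (F 0) ⟶ F k)
  | 0, _ => (Scheme.Modules.pushforwardId (T.X 0)).hom.app (F 0)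
  | k + 1, w => (cIso T k (F 0)).inv ≫
      (Pf (T.i k)).map (muT k (Fin.tail w)) ≫ tauT T F ψ k (a (w 0)) (ha _)

lemma rhoT_muT (k : ℕ) (w : Fin k → Fin r) :
    rhoT T F ψ k ≫ muT T F ψ a ha k w = Formal.smulMod A (F k) (∏ i, a (w i)) := by
  induction k with
  | zero =>
    rw [Fin.prod_univ_zero]
    refine ((Scheme.Modules.pushforwardId (T.X 0)).inv_hom_id_app (F 0)).trans ?_
    refine Scheme.Modules.hom_ext _ _ fun U => ConcreteCategory.hom_ext _ _ fun s => ?_
    exact ((FormalLib.smulMod_app (F 0) (1 : A) U s).trans (one_smul A (show FormalLib.Sec A (F 0) U from s))).symm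
  | succ k ih =>
    rw [rhoT, muT]
    simp only [Category.assoc, Iso.hom_inv_id_assoc]
    rw [← Functor.map_comp_assoc, ih, push_smulMod (T.i k) (comp_over T _ _ (sq_i T k)), ← Category.assoc,
      ← FormalProLib.smulMod_natural, Category.assoc, res'_tauT, ← smulMod_mul, Fin.prod_univ_succ]
    rfl

lemma muT_comm (k : ℕ) (w : Fin k → Fin r) (i j : Fin r) :
    muT T F ψ a ha (k + 1 + 1) (Fin.cons i (Fin.cons j w)) = muT T F ψ a ha (k + 1 + 1) (Fin.cons j (Fin.cons i w)) := by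
  have := epi_rhoT T F ψ (k + 1 + 1)
  rw [← cancel_epi (rhoT T F ψ (k + 1 + 1)), rhoT_muT, rhoT_muT]
  refine congrArg (Formal.smulMod A _) ?_
  simp only [Fin.prod_univ_succ, Fin.cons_zero, Fin.cons_succ]
  ring

/-- The free terms on level zero. -/
abbrev word (F : ∀ k, (T.X k).Modules) (r k : ℕ) : (T.X 0).Modules := ⨁ fun _ : (Fin k → Fin r) => F 0

/-- Prepending a letter. -/
def tW (i : Fin r) (k : ℕ) : word T F r k ⟶ word T F r (k + 1) :=
  biproduct.desc fun w => biproduct.ι (fun _ : (Fin (k + 1) → Fin r) => F 0) (Fin.cons i w)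

/-- All multiplications into level `k`. -/
def mulAll (k : ℕ) : (Pf (toLvl T k)).obj (word T F r k) ⟶ F k :=
  ∑ w : Fin k → Fin r, (Pf (toLvl T k)).map (biproduct.π (fun _ => F 0) w) ≫ muT T F ψ a ha k w

omit [∀ k, Coh.IsQCoh (F k)] in
lemma word_ext {k : ℕ} {Z : Scheme.{u}} {g : T.X 0 ⟶ Z} {W : Z.Modules} {φ φ' : (Pf g).obj (word T F r k) ⟶ W}
    (h : ∀ w, (Pf g).map (biproduct.ι (fun _ : (Fin k → Fin r) => F 0) w) ≫ φ =
      (Pf g).map (biproduct.ι (fun _ : (Fin k → Fin r) => F 0) w) ≫ φ') : φ = φ' := by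
  have e : 𝟙 ((Pf g).obj (word T F r k)) = ∑ w, (Pf g).map (biproduct.π (fun _ : (Fin k → Fin r) => F 0) w) ≫
      (Pf g).map (biproduct.ι (fun _ : (Fin k → Fin r) => F 0) w) := by
    rw [← (Pf g).map_id, show 𝟙 (word T F r k) = ∑ w, biproduct.π (fun _ : (Fin k → Fin r) => F 0) w ≫
      biproduct.ι (fun _ : (Fin k → Fin r) => F 0) w from (biproduct.total (f := fun _ : (Fin k → Fin r) => F 0)).symm,
      Functor.map_sum]
    simp only [Functor.map_comp]
  rw [← Category.id_comp φ, ← Category.id_comp φ', e, Preadditive.sum_comp, Preadditive.sum_comp]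
  exact Finset.sum_congr rfl fun w _ => by rw [Category.assoc, Category.assoc, h w]

lemma ι_mulAll (k : ℕ) (w : Fin k → Fin r) :
    (Pf (toLvl T k)).map (biproduct.ι (fun _ : (Fin k → Fin r) => F 0) w) ≫ mulAll T F ψ a ha k =
      muT T F ψ a ha k w := by
  rw [mulAll, Preadditive.comp_sum, Finset.sum_eq_single w]
  · rw [← Functor.map_comp_assoc, biproduct.ι_π_self, CategoryTheory.Functor.map_id, Category.id_comp]
  · intro v _ hv
    rw [← Functor.map_comp_assoc, biproduct.ι_π_ne _ (Ne.symm hv), Functor.map_zero, zero_comp]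
  · exact fun h => absurd (Finset.mem_univ w) h

lemma tW_mulAll (i : Fin r) (k : ℕ) :
    (Pf (toLvl T (k + 1))).map (tW T F i k) ≫ mulAll T F ψ a ha (k + 1) =
      (cIso T k (word T F r k)).inv ≫
        (Pf (T.i k)).map (mulAll T F ψ a ha k) ≫ tauT T F ψ k (a i) (ha i) := by
  refine word_ext T F fun w => ?_
  rw [← Functor.map_comp_assoc,
    show biproduct.ι (fun _ : (Fin k → Fin r) => F 0) w ≫ tW T F i k =
      biproduct.ι (fun _ : (Fin (k + 1) → Fin r) => F 0) (Fin.cons i w) from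
      biproduct.ι_desc (fun w => biproduct.ι (fun _ : (Fin (k + 1) → Fin r) => F 0) (Fin.cons i w)) w, ι_mulAll]
  rw [← Category.assoc ((Pf (toLvl T (k + 1))).map _) (cIso T k (word T F r k)).inv, cIso_inv_nat, Category.assoc,
    ← Functor.map_comp_assoc, ι_mulAll, muT, Fin.tail_cons]
  rfl

/-- The relations. -/
def relT (k : ℕ) : (Scheme.Modules.pullback (toLvl T k)).obj (kernel (mulAll T F ψ a ha k)) ⟶ word T F r k :=
  ((Scheme.Modules.pullbackPushforwardAdjunction (toLvl T k)).homEquiv _ _).symm (kernel.ι (mulAll T F ψ a ha k))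

lemma unit_relT (k : ℕ) :
    (Scheme.Modules.pullbackPushforwardAdjunction (toLvl T k)).unit.app (kernel (mulAll T F ψ a ha k)) ≫
      (Pf (toLvl T k)).map (relT T F ψ a ha k) = kernel.ι (mulAll T F ψ a ha k) := by
  exact ((Scheme.Modules.pullbackPushforwardAdjunction (toLvl T k)).homEquiv_unit _ _ _).symm.trans
    (Equiv.apply_symm_apply _ _)

/-- The kernel of level `k`, on level zero. -/
def kerObj (k : ℕ) : (T.X 0).Modules := cokernel (relT T F ψ a ha k)

/-- The projection onto it. -/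
def kerπ (k : ℕ) : word T F r k ⟶ kerObj T F ψ a ha k := cokernel.π _

lemma epi_kerπ (k : ℕ) : Epi (kerπ T F ψ a ha k) := coequalizer.π_epi

lemma kills {k : ℕ} {W : (T.X k).Modules} (v : W ⟶ (Pf (toLvl T k)).obj (word T F r k))
    (hv : v ≫ mulAll T F ψ a ha k = 0) : v ≫ (Pf (toLvl T k)).map (kerπ T F ψ a ha k) = 0 := by
  rw [← kernel.lift_ι _ v hv, ← unit_relT, Category.assoc, Category.assoc, ← Functor.map_comp,
    show relT T F ψ a ha k ≫ kerπ T F ψ a ha k = 0 from cokernel.condition _, Functor.map_zero, comp_zero, comp_zero]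

section Coherent

variable [IsNoetherianRing A] (hF : Coh.IsCoh (F 0))

include hF in
lemma isCoh_word (k : ℕ) : Coh.IsCoh (word T F r k) := isCoh_biproduct hF

include hF in
lemma isQCoh_kerM (k : ℕ) : Coh.IsQCoh (kernel (mulAll T F ψ a ha k)) :=
  have : Coh.IsQCoh (word T F r k) := (isCoh_word T F hF k).1
  have : Coh.IsQCoh ((Pf (toLvl T k)).obj (word T F r k)) := QCohLib.isQCoh_pushforward _ _
  QCohLib.isQCoh_kernel _

include hF in
lemma isCoh_kerObj (k : ℕ) : Coh.IsCoh (kerObj T F ψ a ha k) :=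
  have := isQCoh_kerM T F ψ a ha hF k
  QCohLib.isCoh_cokernel _ (KFlatLib.isQCoh_pullback _ _) (isCoh_word T F hF k)

include hF in
lemma epi_unit_kerM (k : ℕ) :
    Epi ((Scheme.Modules.pullbackPushforwardAdjunction (toLvl T k)).unit.app (kernel (mulAll T F ψ a ha k))) :=
  have := isQCoh_kerM T F ψ a ha hF k
  epi_unit (toLvl T k) (comp_over T _ _ (sq_toLvl T k)) _ (fun b hb => toGlobal_eq_zero T 0 hb)
    (ker_le T _ _ (sq_toLvl T k)) _

include hF in
lemma relT_tW (i : Fin r) (k : ℕ) : relT T F ψ a ha k ≫ tW T F i k ≫ kerπ T F ψ a ha (k + 1) = 0 := by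
  refine push_map_eq_zero (toLvl T (k + 1)) _ ?_
  have : Coh.IsQCoh (kernel (mulAll T F ψ a ha k)) := isQCoh_kerM T F ψ a ha hF k
  have : Coh.IsQCoh ((Pf (toLvl T k)).obj ((Scheme.Modules.pullback (toLvl T k)).obj
      (kernel (mulAll T F ψ a ha k)))) :=
    have := KFlatLib.isQCoh_pullback (toLvl T k) (kernel (mulAll T F ψ a ha k))
    QCohLib.isQCoh_pushforward _ _
  have := epi_unit_kerM T F ψ a ha hF k
  have hmap : Epi ((Pf (T.i k)).map
      ((Scheme.Modules.pullbackPushforwardAdjunction (toLvl T k)).unit.app (kernel (mulAll T F ψ a ha k)))) :=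
    @epi_push _ _ (T.i k) _ (kernel (mulAll T F ψ a ha k)) ((Pf (toLvl T k)).obj
      ((Scheme.Modules.pullback (toLvl T k)).obj (kernel (mulAll T F ψ a ha k)))) ‹_› ‹_›
      ((Scheme.Modules.pullbackPushforwardAdjunction (toLvl T k)).unit.app (kernel (mulAll T F ψ a ha k))) ‹_›
  let v : (Pf (T.i k)).obj (kernel (mulAll T F ψ a ha k)) ⟶ (Pf (toLvl T (k + 1))).obj (word T F r (k + 1)) :=
    (Pf (T.i k)).map (kernel.ι (mulAll T F ψ a ha k)) ≫ (cIso T k (word T F r k)).hom ≫
      (Pf (toLvl T (k + 1))).map (tW T F i k)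
  have hv : v ≫ mulAll T F ψ a ha (k + 1) = 0 := by
    show (_ ≫ _ ≫ _) ≫ _ = 0
    rw [Category.assoc, Category.assoc, tW_mulAll]
    rw [Iso.hom_inv_id_assoc]
    rw [← Functor.map_comp_assoc, kernel.condition, Functor.map_zero, zero_comp]
  have h2 : (Pf (T.i k)).map (((Scheme.Modules.pullbackPushforwardAdjunction (toLvl T k)).unit.app (kernel (mulAll T F ψ a ha k)))) ≫ (cIso T k _).hom ≫
      (Pf (toLvl T (k + 1))).map (relT T F ψ a ha k ≫ tW T F i k ≫ kerπ T F ψ a ha (k + 1)) = 0 := by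
    refine Eq.trans ?_ (kills T F ψ a ha v hv)
    have e : (Pf (T.i k)).map (kernel.ι (mulAll T F ψ a ha k)) ≫ (cIso T k (word T F r k)).hom =
        (Pf (T.i k)).map ((Scheme.Modules.pullbackPushforwardAdjunction (toLvl T k)).unit.app
          (kernel (mulAll T F ψ a ha k))) ≫ (cIso T k _).hom ≫ (Pf (toLvl T (k + 1))).map (relT T F ψ a ha k) := by
      refine (congrArg (fun φ => (Pf (T.i k)).map φ ≫ _) (unit_relT T F ψ a ha k).symm).trans ?_
      refine (congrArg (fun φ => φ ≫ _) ((Pf (T.i k)).map_comp _ _)).trans ((Category.assoc _ _ _).trans ?_)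
      exact congrArg (fun φ => _ ≫ φ) (cIso_hom_nat T k (relT T F ψ a ha k))
    show _ = ((Pf (T.i k)).map (kernel.ι (mulAll T F ψ a ha k)) ≫ (cIso T k (word T F r k)).hom ≫ _) ≫ _
    rw [← Category.assoc ((Pf (T.i k)).map (kernel.ι (mulAll T F ψ a ha k))), e, Functor.map_comp, Functor.map_comp]
    simp only [Category.assoc]
  exact ((cancel_epi (cIso T k _).hom).1
    (((cancel_epi ((Pf (T.i k)).map (((Scheme.Modules.pullbackPushforwardAdjunction (toLvl T k)).unit.app (kernel (mulAll T F ψ a ha k)))))).1 (h2.trans comp_zero.symm)).trans comp_zero.symm))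

include hF in
lemma tW_comm (i j : Fin r) (k : ℕ) :
    (tW T F j k ≫ tW T F i (k + 1) - tW T F i k ≫ tW T F j (k + 1)) ≫ kerπ T F ψ a ha (k + 1 + 1) = 0 := by
  refine push_map_eq_zero (toLvl T (k + 1 + 1)) _ ?_
  rw [Functor.map_comp]
  refine kills T F ψ a ha _ (word_ext T F fun w => ?_)
  rw [comp_zero, ← Functor.map_comp_assoc, Preadditive.comp_sub, Functor.map_sub, Preadditive.sub_comp]
  have hι : ∀ p q : Fin r, biproduct.ι (fun _ : (Fin k → Fin r) => F 0) w ≫ tW T F q k ≫ tW T F p (k + 1) =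
      biproduct.ι (fun _ : (Fin (k + 1 + 1) → Fin r) => F 0) (Fin.cons p (Fin.cons q w)) := fun p q =>
    (biproduct.ι_desc_assoc _ _ _).trans (biproduct.ι_desc _ _)
  rw [hι, hι, ι_mulAll, ι_mulAll, muT_comm, sub_self]

/-- The operators on the kernels. -/
def tK (i : Fin r) (k : ℕ) : kerObj T F ψ a ha k ⟶ kerObj T F ψ a ha (k + 1) :=
  cokernel.desc _ (tW T F i k ≫ kerπ T F ψ a ha (k + 1)) (relT_tW T F ψ a ha hF i k)

lemma kerπ_tK (i : Fin r) (k : ℕ) :
    kerπ T F ψ a ha k ≫ tK T F ψ a ha hF i k = tW T F i k ≫ kerπ T F ψ a ha (k + 1) :=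
  cokernel.π_desc _ _ _

/-- **The graded system of kernels.** -/
def thickSys : SSys (T.X 0) r where
  C := kerObj T F ψ a ha
  t := tK T F ψ a ha hF
  comm i j k := by
    have := epi_kerπ T F ψ a ha k
    refine (cancel_epi (kerπ T F ψ a ha k)).1 ?_
    rw [← Category.assoc, kerπ_tK, Category.assoc, kerπ_tK, ← Category.assoc, ← Category.assoc (kerπ T F ψ a ha k),
      kerπ_tK, Category.assoc (tW T F i k), kerπ_tK, ← Category.assoc (tW T F i k), ← sub_eq_zero,
      ← Preadditive.sub_comp]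
    exact tW_comm T F ψ a ha hF i j k

theorem isGenCoh_thickSys : (thickSys T F ψ a ha hF).IsGenCoh := by
  refine ⟨isCoh_kerObj T F ψ a ha hF, 0, fun k _ => Preadditive.epi_of_cancel_zero _ fun {W} (φ : kerObj T F ψ a ha (k + 1) ⟶ W) hφ => ?_⟩
  have := epi_kerπ T F ψ a ha (k + 1)
  refine (cancel_epi (kerπ T F ψ a ha (k + 1))).1 (Eq.trans ?_ comp_zero.symm)
  refine biproduct.hom_ext' _ _ fun v => ?_
  rw [comp_zero, ← Fin.cons_self_tail v,
    ← biproduct.ι_desc (fun w => biproduct.ι (fun _ : (Fin (k + 1) → Fin r) => F 0) (Fin.cons (v 0) w)) (Fin.tail v)]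
  show (_ ≫ tW T F (v 0) k) ≫ kerπ T F ψ a ha (k + 1) ≫ φ = 0
  rw [Category.assoc, ← Category.assoc (tW T F (v 0) k), ← kerπ_tK T F ψ a ha hF,
    show tK T F ψ a ha hF (v 0) k = biproduct.ι (fun _ : Fin r => (thickSys T F ψ a ha hF).C k) (v 0) ≫
      (thickSys T F ψ a ha hF).sumMap k from (SSys.ι_sumMap (thickSys T F ψ a ha hF) (v 0) k).symm]
  refine (congrArg (fun χ => biproduct.ι (fun _ : (Fin k → Fin r) => F 0) (Fin.tail v) ≫ χ) ?_).trans
    (comp_zero (f := biproduct.ι (fun _ : (Fin k → Fin r) => F 0) (Fin.tail v)))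
  refine (Category.assoc _ _ _).trans ((congrArg (fun χ => kerπ T F ψ a ha k ≫ χ) ?_).trans comp_zero)
  exact (Category.assoc _ _ _).trans ((congrArg (fun χ => biproduct.ι (fun _ : Fin r => (thickSys T F ψ a ha hF).C k)
    (v 0) ≫ χ) hφ).trans comp_zero)

include hF in
/-- **The step from one level to the next.** -/
theorem exists_step (hspan : Ideal.span (Set.range a) = J) (k : ℕ) :
    ∃ (ν : (Pf (toLvl T (k + 1))).obj (kerObj T F ψ a ha (k + 1)) ⟶ F (k + 1))
      (h : ν ≫ res' T F ψ k = 0), (ShortComplex.mk ν (res' T F ψ k) h).ShortExact := by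
  let M := mulAll T F ψ a ha (k + 1)
  let j := toLvl T (k + 1)
  have hS : Coh.IsQCoh (word T F r (k + 1)) := (isCoh_word T F hF (k + 1)).1
  have hK : Coh.IsQCoh (kerObj T F ψ a ha (k + 1)) := (isCoh_kerObj T F ψ a ha hF (k + 1)).1
  have hq := isQCoh_kerM T F ψ a ha hF (k + 1)
  have hR : Coh.IsQCoh ((Scheme.Modules.pullback j).obj (kernel M)) := KFlatLib.isQCoh_pullback _ _
  have hI : Coh.IsQCoh (Abelian.image (relT T F ψ a ha (k + 1))) := QCohLib.isQCoh_image _
  have := epi_unit_kerM T F ψ a ha hF (k + 1)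
  have := epi_kerπ T F ψ a ha (k + 1)
  let S : ShortComplex (T.X 0).Modules := DevissLib.imCokSeq (relT T F ψ a ha (k + 1))
  have : Coh.IsQCoh S.X₂ := hS
  have : Coh.IsQCoh S.X₃ := hK
  have hSE : (S.map (Pf j)).ShortExact :=
    shortExact_push j (DevissLib.imCokSeq_shortExact (relT T F ψ a ha (k + 1)))
  have h0 : (Pf j).map (Abelian.image.ι (relT T F ψ a ha (k + 1))) ≫ M = 0 := by
    have : Epi ((Pf j).map (Abelian.factorThruImage (relT T F ψ a ha (k + 1)))) := epi_push _ _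
    rw [← cancel_epi ((Pf j).map (Abelian.factorThruImage (relT T F ψ a ha (k + 1)))), ← Functor.map_comp_assoc,
      Abelian.image.fac, comp_zero,
      ← cancel_epi ((Scheme.Modules.pullbackPushforwardAdjunction j).unit.app (kernel M)), ← Category.assoc,
      unit_relT, kernel.condition, comp_zero]
  have := hSE.epi_g
  let ν : (Pf j).obj (kerObj T F ψ a ha (k + 1)) ⟶ F (k + 1) := hSE.exact.desc M h0
  have hν : (Pf j).map (kerπ T F ψ a ha (k + 1)) ≫ ν = M := hSE.exact.g_desc _ _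
  have hepi : Epi ((Pf j).map (kerπ T F ψ a ha (k + 1))) := epi_push _ _
  have hμ : ∀ w, muT T F ψ a ha (k + 1) w ≫ res' T F ψ k = 0 := fun w => by
    have := epi_rhoT T F ψ (k + 1)
    rw [← cancel_epi (rhoT T F ψ (k + 1)), comp_zero, ← Category.assoc, rhoT_muT]
    have hb : ∏ i, a (w i) ∈ J ^ (k + 1) := by
      have := Ideal.prod_mem_prod (s := Finset.univ) (I := fun _ : Fin (k + 1) => J) (x := fun i => a (w i))
        (fun i _ => ha _)
      simpa using this
    rw [← Sigma.ι_desc (fun b : ↥(J ^ (k + 1)) => Formal.smulMod A (F (k + 1)) (b : A)) ⟨_, hb⟩, Category.assoc]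
    exact (congrArg (fun φ => _ ≫ φ) (smulFamily_res' T F ψ k)).trans comp_zero
  have hz : ν ≫ res' T F ψ k = 0 := by
    rw [← cancel_epi ((Pf j).map (kerπ T F ψ a ha (k + 1))), ← Category.assoc, hν, comp_zero]
    refine word_ext T F fun w => ?_
    rw [comp_zero, ← Category.assoc, ι_mulAll, hμ]
  have hmono : Mono ν := Preadditive.mono_of_cancel_zero _ fun {W} w hw => by
    have : Epi (pullback.fst w ((Pf j).map (kerπ T F ψ a ha (k + 1)))) := inferInstance
    refine (cancel_epi (pullback.fst w ((Pf j).map (kerπ T F ψ a ha (k + 1))))).1 ?_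
    rw [comp_zero, pullback.condition]
    refine kills T F ψ a ha _ ?_
    rw [show mulAll T F ψ a ha (k + 1) = _ from hν.symm, ← Category.assoc, ← pullback.condition, Category.assoc, hw,
      comp_zero]
  have := isIso_desc_res' T F ψ k
  have key : ∀ {W : (T.X (k + 1)).Modules} (φ : F (k + 1) ⟶ W), ν ≫ φ = 0 →
      Formal.smulFamily (J ^ (k + 1)) (F (k + 1)) ≫ φ = 0 := fun φ hφ => by
    refine FormalProLib.smulFamily_comp _ ?_
    refine (Ideal.pow_right_mono hspan.ge (k + 1)).trans ?_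
    refine le_of_prod_mem a (k + 1) _ fun w => ?_
    show Formal.smulMod A (F (k + 1)) _ ≫ φ = 0
    rw [← rhoT_muT T F ψ a ha (k + 1) w, ← ι_mulAll, show mulAll T F ψ a ha (k + 1) = _ from hν.symm, Category.assoc, Category.assoc, Category.assoc, hφ,
      comp_zero, comp_zero, comp_zero]
  refine ⟨ν, hz, ?_⟩
  have := epi_res' T F ψ k
  exact { exact := ShortComplex.exact_of_g_is_cokernel _ (CokernelCofork.IsColimit.ofπ' _ _ fun {W} φ hφ =>
            ⟨inv (cokernel.desc _ (res' T F ψ k) (smulFamily_res' T F ψ k)) ≫ cokernel.desc _ φ (key φ hφ), by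
              refine Eq.trans (congrArg (fun χ => χ ≫ _)
                (cokernel.π_desc _ (res' T F ψ k) (smulFamily_res' T F ψ k)).symm) ?_
              rw [Category.assoc, IsIso.hom_inv_id_assoc, cokernel.π_desc]⟩)
          mono_f := hmono
          epi_g := this }

end Coherent

end Sys

end GrSysLib

end
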