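import Groth.Agent.GrSysLib.Alg
import Groth.Agent.FormalProLib.Pro
import Groth.Agent.QCohLib.SerreCrit
import Groth.Agent.DevissLib.Basic

/-!
# Graded systems of modules on a scheme with `r` commuting operators of degree one
-/

universe u

open CategoryTheory CategoryTheory.Limits AlgebraicGeometry Opposite TopologicalSpace

noncomputable section

namespace GrSysLib

variable {X : Scheme.{u}}

/-- A graded system. -/
structure SSys (X : Scheme.{u}) (r : ℕ) where
  C : ℕ → X.Modules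
  t : Fin r → ∀ k, C k ⟶ C (k + 1)
  comm : ∀ i j k, t j k ≫ t i (k + 1) = t i k ≫ t j (k + 1)

variable {r : ℕ}

/-- All operators into one degree. -/
def SSys.sumMap (S : SSys X r) (k : ℕ) : (⨁ fun _ : Fin r => S.C k) ⟶ S.C (k + 1) :=
  biproduct.desc fun i => S.t i k

lemma SSys.ι_sumMap (S : SSys X r) (i : Fin r) (k : ℕ) :
    biproduct.ι (fun _ : Fin r => S.C k) i ≫ S.sumMap k = S.t i k :=
  biproduct.ι_desc _ _

/-- Coherent terms, generated in bounded degree. -/
def SSys.IsGenCoh (S : SSys X r) : Prop :=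
  (∀ k, Coh.IsCoh (S.C k)) ∧ ∃ d, ∀ k, d ≤ k → Epi (S.sumMap k)

/-- Cokernels of the last operator. -/
def SSys.cokSys (S : SSys X (r + 1)) : SSys X r where
  C k := cokernel (S.t (Fin.last r) k)
  t i k := cokernel.map _ _ (S.t i.castSucc k) (S.t i.castSucc (k + 1)) (S.comm _ _ _)
  comm i j k := coequalizer.hom_ext (by
    simp only [cokernel.map, cokernel.π_desc_assoc, Category.assoc, cokernel.π_desc]
    rw [reassoc_of% S.comm i.castSucc j.castSucc (k + 1)])

lemma SSys.π_cokSys (S : SSys X (r + 1)) (i : Fin r) (k : ℕ) :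
    cokernel.π (S.t (Fin.last r) k) ≫ S.cokSys.t i k =
      S.t i.castSucc (k + 1) ≫ cokernel.π (S.t (Fin.last r) (k + 1)) :=
  cokernel.π_desc _ _ _

/-- Kernels of the last operator. -/
def SSys.kerSys (S : SSys X (r + 1)) : SSys X r where
  C k := kernel (S.t (Fin.last r) k)
  t i k := kernel.map _ _ (S.t i.castSucc k) (S.t i.castSucc (k + 1)) (S.comm _ _ _)
  comm i j k := equalizer.hom_ext (by
    simp only [kernel.map, kernel.lift_ι_assoc, Category.assoc, kernel.lift_ι]
    rw [S.comm i.castSucc j.castSucc k])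

lemma SSys.kerSys_ι (S : SSys X (r + 1)) (i : Fin r) (k : ℕ) :
    S.kerSys.t i k ≫ kernel.ι (S.t (Fin.last r) (k + 1)) = kernel.ι (S.t (Fin.last r) k) ≫ S.t i.castSucc k :=
  kernel.lift_ι _ _ _

/-- Applying a functor. -/
def SSys.map (S : SSys X r) (F : X.Modules ⥤ X.Modules) : SSys X r where
  C k := F.obj (S.C k)
  t i k := F.map (S.t i k)
  comm i j k := by rw [← F.map_comp, S.comm, F.map_comp]

lemma secMap_sum {ι : Type*} {M N : X.Modules} (s : Finset ι) (g : ι → (M ⟶ N)) (U : X.Opens) (y : Γ(M, U)) :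
    (∑ i ∈ s, g i).app U y = ∑ i ∈ s, (g i).app U y := by
  classical
  induction s using Finset.induction_on with
  | empty => rfl
  | @insert i s hi ih => rw [Finset.sum_insert hi, Finset.sum_insert hi, ← ih]; rfl

lemma sumMap_eq (S : SSys X r) (k : ℕ) :
    S.sumMap k = ∑ i, biproduct.π (fun _ : Fin r => S.C k) i ≫ S.t i k :=
  biproduct.desc_eq

/-- Epimorphisms are detected by sections on a cover by affines. -/
theorem epi_of_surjective_on_cover {M N : X.Modules} [Coh.IsQCoh N] (φ : M ⟶ N) {ι : Type*} (U : ι → X.Opens)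
    (hU : ∀ i, IsAffineOpen (U i)) (hcov : ∀ x : X, ∃ i, x ∈ U i) (h : ∀ i, Function.Surjective (φ.app (U i))) :
    Epi φ := by
  refine QCohLib.epi_of_surjective_on_affines φ fun V s p hp => ?_
  obtain ⟨j, hj⟩ := hcov p
  obtain ⟨g, hgV, hpg⟩ := (hU j).exists_basicOpen_le ⟨p, hp⟩ hj
  refine ⟨X.basicOpen g, hgV, hpg, ?_⟩
  obtain ⟨n, a, ha⟩ := (QCohLib.localizingAt_of_isQCoh (hU j) N g).exists_extend (N.presheaf.map (homOfLE hgV).op s)
  obtain ⟨b, rfl⟩ := h j a
  have hu : IsUnit ((X.presheaf.map (homOfLE (X.basicOpen_le g)).op g) ^ n) :=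
    (RingedSpace.isUnit_res_basicOpen X.toRingedSpace g).pow n
  refine ⟨(hu.unit⁻¹ : _).val • M.presheaf.map (homOfLE (X.basicOpen_le g)).op b, ?_⟩
  rw [QCohLib.app_smul, QCohLib.app_map, ha, smul_smul, IsUnit.val_inv_mul, one_smul]

/-- Sections of an eventually generated system on an affine open are eventually generated. -/
theorem exists_app_gen (S : SSys X r) (hS : S.IsGenCoh) : ∃ d, ∀ k, d ≤ k → ∀ U : X.Opens, IsAffineOpen U →
    ∀ x : Γ(S.C (k + 1), U), ∃ y : Fin r → Γ(S.C k, U), ∑ i, (S.t i k).app U (y i) = x := by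
  obtain ⟨hcoh, d, hd⟩ := hS
  refine ⟨d, fun k hk U hU x => ?_⟩
  have := hd k hk
  have : Coh.IsQCoh (S.C (k + 1)) := (hcoh _).1
  have : Coh.IsQCoh (S.C k) := (hcoh _).1
  have : Coh.IsQCoh (⨁ fun _ : Fin r => S.C k) :=
    have : Coh.IsQCoh (∐ fun _ : ULift.{u} (Fin r) => S.C k) := QCohLib.isQCoh_sigma _ fun _ => ‹_›
    QCohLib.isQCoh_of_iso ((biproduct.isoCoproduct _).symm ≪≫
      biproduct.whiskerEquiv Equiv.ulift fun _ => Iso.refl (S.C k))
  obtain ⟨z, rfl⟩ := FormalLib.app_surjective_of_epi _ (S.sumMap k) hU x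
  refine ⟨fun i => (biproduct.π (fun _ : Fin r => S.C k) i).app U z, ?_⟩
  rw [sumMap_eq, secMap_sum]
  rfl

theorem isGenCoh_cokSys [IsLocallyNoetherian X] (S : SSys X (r + 1)) (hS : S.IsGenCoh) : S.cokSys.IsGenCoh := by
  obtain ⟨hcoh, d, hd⟩ := hS
  refine ⟨fun k => ?_, d, fun k hk => ?_⟩
  · have := (hcoh k).1
    have := (hcoh (k + 1)).1
    have hπ : Epi (cokernel.π (S.t (Fin.last r) k)) := coequalizer.π_epi
    exact ⟨QCohLib.isQCoh_cokernel _, @QCohLib.isFT_of_epi _ _ _ (cokernel.π (S.t (Fin.last r) k)) hπ (hcoh _).2⟩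
  · have := hd (k + 1) (by omega)
    refine Preadditive.epi_of_cancel_zero _ fun {Z} ψ hψ => ?_
    have h1 : ∀ i : Fin r, S.cokSys.t i k ≫ ψ = 0 := fun i => by
      rw [← S.cokSys.ι_sumMap i k, Category.assoc, hψ, comp_zero]
    have h0 : S.sumMap (k + 1) ≫ cokernel.π (S.t (Fin.last r) (k + 1)) ≫ ψ = 0 := by
      refine biproduct.hom_ext' _ _ fun i => ?_
      rw [comp_zero, reassoc_of% S.ι_sumMap i (k + 1)]
      cases i using Fin.lastCases with
      | last => exact (cokernel.condition_assoc (S.t (Fin.last r) (k + 1)) ψ).trans zero_comp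
      | cast i =>
        refine (Category.assoc _ _ _).symm.trans ?_
        refine (congrArg (fun φ => φ ≫ ψ) (S.π_cokSys i k).symm).trans ?_
        exact (Category.assoc _ _ _).trans ((congrArg (fun φ => _ ≫ φ) (h1 i)).trans comp_zero)
    exact (cancel_epi (cokernel.π (S.t (Fin.last r) (k + 1)))).1
      (((cancel_epi (S.sumMap (k + 1))).1 (h0.trans comp_zero.symm)).trans comp_zero.symm)

theorem isGenCoh_kerSys [AlgebraicGeometry.IsNoetherian X] (S : SSys X (r + 1)) (hS : S.IsGenCoh) :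
    S.kerSys.IsGenCoh := by
  have hcoh := hS.1
  have hker : ∀ k, Coh.IsCoh (S.kerSys.C k) := fun k => QCohLib.isCoh_kernel _ (hcoh k) (hcoh (k + 1)).1
  refine ⟨hker, ?_⟩
  let 𝒰 := X.affineCover.finiteSubcover
  let U : 𝒰.I₀ → X.Opens := fun j => (𝒰.f j).opensRange
  have hU : ∀ j, IsAffineOpen (U j) := fun j =>
    have : IsAffine (𝒰.X j) := inferInstanceAs (IsAffine (X.affineCover.X _))
    isAffineOpen_opensRange _
  have hloc : ∀ j, ∃ d, ∀ k, d ≤ k → Function.Surjective ((S.kerSys.sumMap k).app (U j)) := by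
    intro j
    let B := Γ(X, U j)
    have : IsNoetherianRing B := IsLocallyNoetherian.component_noetherian ⟨U j, hU j⟩
    let tM : Fin (r + 1) → ∀ k, Γ(S.C k, U j) →ₗ[B] Γ(S.C (k + 1), U j) := fun i k =>
      { toFun := (S.t i k).app (U j), map_add' := map_add _,
        map_smul' := fun b x => QCohLib.app_smul (S.t i k) (U j) b x }
    let tK : Fin r → ∀ k, Γ(S.kerSys.C k, U j) →ₗ[B] Γ(S.kerSys.C (k + 1), U j) := fun i k =>
      { toFun := (S.kerSys.t i k).app (U j), map_add' := map_add _,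
        map_smul' := fun b x => QCohLib.app_smul (S.kerSys.t i k) (U j) b x }
    let tK' : Fin (r + 1) → ∀ k, Γ(S.kerSys.C k, U j) →ₗ[B] Γ(S.kerSys.C (k + 1), U j) := fun i =>
      Fin.lastCases (fun _ => 0) (fun i => tK i) i
    have : ∀ k, Module.Finite B Γ(S.C k, U j) := fun k =>
      have : Coh.IsQCoh (S.C k) := (hcoh k).1
      QCohLib.finite_of_isFT (hcoh k).2 (hU j)
    let ι : ∀ k, Γ(S.kerSys.C k, U j) →ₗ[B] Γ(S.C k, U j) := fun k =>
      { toFun := (kernel.ι (S.t (Fin.last r) k)).app (U j), map_add' := map_add _,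
        map_smul' := fun b x => QCohLib.app_smul (kernel.ι (S.t (Fin.last r) k)) (U j) b x }
    have hc : CommOps tM := fun i i' k x => congrArg (fun φ => φ.app (U j) x) (S.comm i i' k)
    obtain ⟨d₀, hd₀⟩ := exists_app_gen S hS
    have hg : GenOps tM := ⟨d₀, fun k hk x => hd₀ k hk (U j) (hU j) x⟩
    obtain ⟨d, hd⟩ := gen_of_injective (tN := tK') hc hg ι
      (fun k => QCohLib.app_injective_of_mono (kernel.ι (S.t (Fin.last r) k)) (U j)) (fun i k x => by
        cases i using Fin.lastCases with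
        | last =>
          simp only [tK', Fin.lastCases_last]
          refine (map_zero (ι (k + 1))).trans ?_
          exact (congrArg (fun φ => φ.app (U j) x) (kernel.condition (S.t (Fin.last r) k))).symm
        | cast i =>
          simp only [tK', Fin.lastCases_castSucc]
          exact congrArg (fun φ => φ.app (U j) x) (S.kerSys_ι i k))
    refine ⟨d, fun k hk x => ?_⟩
    obtain ⟨y, hy⟩ := hd k hk x
    rw [Fin.sum_univ_castSucc] at hy
    simp only [tK', Fin.lastCases_castSucc, Fin.lastCases_last, LinearMap.zero_apply, add_zero] at hy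
    refine ⟨∑ i : Fin r, (biproduct.ι (fun _ : Fin r => S.kerSys.C k) i).app (U j) (y i.castSucc), ?_⟩
    rw [map_sum, ← hy]
    exact Finset.sum_congr rfl fun i _ => congrArg (fun φ => φ.app (U j) (y i.castSucc)) (S.kerSys.ι_sumMap i k)
  choose d hd using hloc
  refine ⟨Finset.univ.sup d, fun k hk => ?_⟩
  have : Coh.IsQCoh (S.kerSys.C (k + 1)) := (hker _).1
  exact epi_of_surjective_on_cover _ U hU (fun x => Opens.mem_iSup.1 (𝒰.iSup_opensRange.ge (Opens.mem_top x)))
    fun j => hd j k ((Finset.le_sup (Finset.mem_univ j)).trans hk)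

end GrSysLib

end
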