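import Groth.Agent.GrSysLib.Coh
import Groth.Prelude.Def_ega3

/-!
# The powers `I ^ k F` of an ideal of the base as a graded system
-/

universe u

open CategoryTheory CategoryTheory.Limits AlgebraicGeometry Opposite TopologicalSpace

noncomputable section

namespace GrSysLib

open FormalLib (hMapA hMapA_comp hMapA_apply smulMod_mul smulMod_add secMap secMap_comp smulMod_app Sec)
open Formal2 (idealPowMod idealPowModι)

variable {A : Type u} [CommRing A] {X : Scheme.{u}} [X.Over (Spec (CommRingCat.of A))]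
variable (I : Ideal A) (F : X.Modules)

/-- Multiplication by `a ∈ I ^ j` on `I ^ m F`, landing in `I ^ n F` for `n ≤ j + m`. -/
def mu {j m n : ℕ} (h : n ≤ j + m) (a : A) (ha : a ∈ I ^ j) : idealPowMod I m F ⟶ idealPowMod I n F :=
  kernel.lift _ (idealPowModι I m F ≫ Formal.smulMod A F a) (by
    let J : Ideal A := FormalProLib.annHom (Formal.smulMod A F a ≫ Formal.modPowπ I n F)
    have hJ : I ^ m ≤ J := fun b hb => by
      show Formal.smulMod A F b ≫ Formal.smulMod A F a ≫ Formal.modPowπ I n F = 0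
      rw [← Category.assoc, ← smulMod_mul]
      exact FormalLib.smulMod_modPowπ F I n
        (Ideal.pow_le_pow_right h (by rw [pow_add]; exact Ideal.mul_mem_mul ha hb))
    rw [Category.assoc, ← cokernel.π_desc (Formal.smulFamily (I ^ m) F) _ (FormalProLib.smulFamily_comp _ hJ),
      ← Category.assoc]
    exact (congrArg (fun φ => φ ≫ _) (kernel.condition (Formal.modPowπ I m F))).trans zero_comp)

lemma mu_ι {j m n : ℕ} (h : n ≤ j + m) (a : A) (ha : a ∈ I ^ j) :
    mu I F h a ha ≫ idealPowModι I n F = idealPowModι I m F ≫ Formal.smulMod A F a :=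
  kernel.lift_ι _ _ _

lemma mu_comp {j j' m n p : ℕ} (h : n ≤ j + m) (h' : p ≤ j' + n) (a b : A) (ha : a ∈ I ^ j) (hb : b ∈ I ^ j')
    (h'' : p ≤ (j' + j) + m) :
    mu I F h a ha ≫ mu I F h' b hb = mu I F h'' (b * a) (pow_add I j' j ▸ Ideal.mul_mem_mul hb ha) := by
  rw [← cancel_mono (idealPowModι I p F), Category.assoc, mu_ι, mu_ι, ← Category.assoc, mu_ι, Category.assoc,
    ← smulMod_mul, mul_comm b a]

lemma mu_add {j m n : ℕ} (h : n ≤ j + m) (a b : A) (ha : a ∈ I ^ j) (hb : b ∈ I ^ j) :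
    mu I F h (a + b) (add_mem ha hb) = mu I F h a ha + mu I F h b hb := by
  rw [← cancel_mono (idealPowModι I n F), Preadditive.add_comp, mu_ι, mu_ι, mu_ι, smulMod_add, Preadditive.comp_add]

lemma mu_mul {j m n : ℕ} (h : n ≤ j + m) (c a : A) (ha : a ∈ I ^ j) :
    mu I F h (c * a) (Ideal.mul_mem_left _ c ha) = mu I F h a ha ≫ Formal.smulMod A (idealPowMod I n F) c := by
  rw [← cancel_mono (idealPowModι I n F), Category.assoc, mu_ι, FormalProLib.smulMod_natural,
    ← Category.assoc, mu_ι, Category.assoc, ← smulMod_mul]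

variable {r : ℕ} (a : Fin r → A) (ha : ∀ i, a i ∈ I)

/-- The system `k ↦ I ^ k F`. -/
def powSys : SSys X r where
  C k := idealPowMod I k F
  t i k := mu I F (j := 1) (by omega : k + 1 ≤ 1 + k) (a i) (by rw [pow_one]; exact ha i)
  comm i j k := by
    rw [mu_comp I F _ _ _ _ _ _ (by omega : k + 1 + 1 ≤ (1 + 1) + k),
      mu_comp I F _ _ _ _ _ _ (by omega : k + 1 + 1 ≤ (1 + 1) + k)]
    exact (cancel_mono (idealPowModι I _ F)).1 (by rw [mu_ι, mu_ι, mul_comm])

theorem isGenCoh_powSys [IsNoetherianRing A] [AlgebraicGeometry.IsNoetherian X] (hF : Coh.IsCoh F)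
    (hspan : Ideal.span (Set.range a) = I) : (powSys I F a ha).IsGenCoh := by
  have : Coh.IsQCoh F := hF.1
  have hcoh : ∀ k, Coh.IsCoh (idealPowMod I k F) := fun k =>
    QCohLib.isCoh_kernel _ hF (FormalLib.isQCoh_modPow F I k)
  refine ⟨hcoh, 0, fun k _ => ?_⟩
  let 𝒰 := X.affineCover.finiteSubcover
  let U : 𝒰.I₀ → X.Opens := fun j => (𝒰.f j).opensRange
  have hU : ∀ j, IsAffineOpen (U j) := fun j =>
    have : IsAffine (𝒰.X j) := inferInstanceAs (IsAffine (X.affineCover.X _))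
    isAffineOpen_opensRange _
  have : Coh.IsQCoh ((powSys I F a ha).C (k + 1)) := (hcoh (k + 1)).1
  refine epi_of_surjective_on_cover _ U hU
    (fun x => Opens.mem_iSup.1 (𝒰.iSup_opensRange.ge (Opens.mem_top x))) fun j x => ?_
  let M := Sec A F (U j)
  let N : Submodule A M := I ^ k • ⊤
  have hx : secMap (A := A) (idealPowModι I (k + 1) F) (U j) x ∈ (I • N : Submodule A M) := by
    rw [← mul_smul, ← pow_succ', ← FormalLib.ker_secMap_modPowπ F I (k + 1) (hU j), LinearMap.mem_ker]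
    exact congrArg (fun φ => φ.app (U j) x) (kernel.condition (Formal.modPowπ I (k + 1) F))
  have hsum : ∀ w ∈ (I • N : Submodule A M), ∃ y : Fin r → M, (∀ i, y i ∈ N) ∧ ∑ i, a i • y i = w := by
    intro w hw
    refine Submodule.smul_induction_on hw (fun c hc v hv => ?_) ?_
    · rw [← hspan, Ideal.span, Submodule.mem_span_range_iff_exists_fun] at hc
      obtain ⟨e, rfl⟩ := hc
      exact ⟨fun i => e i • v, fun i => N.smul_mem _ hv, by
        rw [Finset.sum_smul]; exact Finset.sum_congr rfl fun i _ => by rw [smul_smul, smul_eq_mul, mul_comm]⟩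
    · rintro v w ⟨y, hy, rfl⟩ ⟨z, hz, rfl⟩
      exact ⟨y + z, fun i => N.add_mem (hy i) (hz i), by simp [Finset.sum_add_distrib]⟩
  obtain ⟨y, hy, hyx⟩ := hsum _ hx
  have hS : (ShortComplex.mk _ _ (kernel.condition (Formal.modPowπ I k F))).Exact :=
    ShortComplex.exact_of_f_is_kernel _ (kernelIsKernel _)
  have hex : ∀ i, ∃ z : Γ((powSys I F a ha).C k, U j), (idealPowModι I k F).app (U j) z = y i := fun i =>
    have h0 := LinearMap.mem_ker.1 ((FormalLib.ker_secMap_modPowπ F I k (hU j)).ge (hy i))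
    QCohLib.exists_of_app_eq_zero hS (inferInstanceAs (Mono (kernel.ι _))) _ h0
  choose z hz using hex
  refine ⟨∑ i, (biproduct.ι (fun _ : Fin r => (powSys I F a ha).C k) i).app (U j) (z i), ?_⟩
  refine QCohLib.app_injective_of_mono (idealPowModι I (k + 1) F) (U j) ?_
  refine Eq.trans ?_ hyx
  rw [map_sum]
  refine (map_sum ((idealPowModι I (k + 1) F).app (U j)).hom _ _).trans (Finset.sum_congr rfl fun i _ => ?_)
  refine Eq.trans ?_ ((smulMod_app F (a i) (U j) (y i)).trans rfl)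
  refine Eq.trans (congrArg (fun φ => φ.app (U j) (z i))
    ((congrArg (fun φ => φ ≫ idealPowModι I (k + 1) F) ((powSys I F a ha).ι_sumMap i k)).trans
      (mu_ι I F (j := 1) (by omega : k + 1 ≤ 1 + k) (a i) (by rw [pow_one]; exact ha i)) : ((biproduct.ι (fun _ : Fin r => (powSys I F a ha).C k) i ≫
      (powSys I F a ha).sumMap k) ≫ idealPowModι I (k + 1) F) = idealPowModι I k F ≫ Formal.smulMod A F (a i))) ?_
  exact congrArg (fun v => (Formal.smulMod A F (a i)).app (U j) v) (hz i)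

lemma mu_one {n : ℕ} (h : n ≤ 0 + n) (h1 : (1 : A) ∈ I ^ 0) : mu I F h 1 h1 = 𝟙 _ := by
  refine (cancel_mono (idealPowModι I n F)).1 ((mu_ι I F h 1 h1).trans (Eq.trans ?_ (Category.id_comp _).symm))
  refine (congrArg (fun φ => idealPowModι I n F ≫ φ) ?_).trans (Category.comp_id _)
  refine Scheme.Modules.hom_ext _ _ fun U => ConcreteCategory.hom_ext _ _ fun s => ?_
  exact (smulMod_app F (1 : A) U s).trans (one_smul A (show Sec A F U from s))

/-- The classes obtained from `H ^ p (I ^ m F)` by multiplication with `I ^ j`. -/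
def mulSpan (p : ℕ) {j m n : ℕ} (h : n ≤ j + m) : Submodule A (Coh.HH X (idealPowMod I n F) p) :=
  Submodule.span A {w | ∃ (b : A) (hb : b ∈ I ^ j) (y : Coh.HH X (idealPowMod I m F) p),
    hMapA (A := A) (mu I F h b hb) p y = w}

lemma mem_mulSpan (p : ℕ) {j m n : ℕ} (h : n ≤ j + m) (b : A) (hb : b ∈ I ^ j)
    (y : Coh.HH X (idealPowMod I m F) p) : hMapA (A := A) (mu I F h b hb) p y ∈ mulSpan I F p h :=
  Submodule.subset_span ⟨b, hb, y, rfl⟩

lemma mulSpan_zero (p k : ℕ) (h : k ≤ 0 + k) : mulSpan I F p h = ⊤ := by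
  refine top_le_iff.1 fun x _ => ?_
  have h1 : (1 : A) ∈ I ^ 0 := by rw [pow_zero, Ideal.one_eq_top]; trivial
  have := mem_mulSpan I F p h 1 h1 x
  rwa [mu_one, FormalProLib.hMap_id] at this

lemma map_mulSpan_le (p : ℕ) {j m n n' : ℕ} (h : n ≤ j + m) (c : A) (hc : c ∈ I) (h' : n' ≤ 1 + n)
    (h'' : n' ≤ j + 1 + m) :
    (mulSpan I F p h).map (hMapA (A := A) (mu I F (j := 1) h' c (by rw [pow_one]; exact hc)) p) ≤
      mulSpan I F p h'' := by
  rw [mulSpan, Submodule.map_span, Submodule.span_le]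
  rintro _ ⟨_, ⟨b, hb, v, rfl⟩, rfl⟩
  rw [hMapA_comp]
  have e : mu I F h b hb ≫ mu I F (j := 1) h' c (by rw [pow_one]; exact hc) =
      mu I F h'' (c * b) (pow_succ' I j ▸ Ideal.mul_mem_mul hc hb) := by
    rw [← cancel_mono (idealPowModι I n' F), Category.assoc, mu_ι, mu_ι, ← Category.assoc, mu_ι, Category.assoc,
      ← smulMod_mul]
  rw [e]
  exact mem_mulSpan I F p h'' _ _ v

/-- Cohomology of `I ^ n F` in large degrees is spanned by multiples of cohomology of `I ^ k F`. -/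
theorem exists_HH_gen [IsNoetherianRing A] [IsProper (X ↘ Spec (CommRingCat.of A))] (hF : Coh.IsCoh F) (p : ℕ) :
    ∃ c : ℕ, ∀ k, c ≤ k → ∀ j n (h : n = j + k), mulSpan I F p (j := j) (m := k) (n := n) h.le = ⊤ := by
  have : IsLocallyNoetherian X := LocallyOfFiniteType.isLocallyNoetherian (X ↘ Spec (CommRingCat.of A))
  have : CompactSpace X := QuasiCompact.compactSpace_of_compactSpace (X ↘ Spec (CommRingCat.of A))
  have : AlgebraicGeometry.IsNoetherian X := {}
  obtain ⟨r, a, hspan⟩ : ∃ (r : ℕ) (a : Fin r → A), Ideal.span (Set.range a) = I :=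
    Submodule.fg_iff_exists_fin_generating_family.1 (IsNoetherian.noetherian I)
  have ha : ∀ i, a i ∈ I := fun i => hspan ▸ Ideal.subset_span ⟨i, rfl⟩
  obtain ⟨c, hc⟩ := gen_HH (A := A) r (powSys I F a ha) (isGenCoh_powSys I F a ha hF hspan) p
  refine ⟨c, fun k hk j => ?_⟩
  induction j with
  | zero =>
    intro n h
    obtain rfl : n = k := h.trans (Nat.zero_add k)
    exact mulSpan_zero I F p n h.le
  | succ j ih =>
    intro n h
    obtain rfl : n = j + k + 1 := h.trans (by omega)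
    refine top_le_iff.1 fun x _ => ?_
    obtain ⟨y, rfl⟩ := hc (j + k) (by omega) x
    refine sum_mem fun i _ => ?_
    exact map_mulSpan_le I F p (le_refl (j + k)) (a i) (ha i) (by omega : j + k + 1 ≤ 1 + (j + k)) h.le
      (Submodule.mem_map_of_mem (by rw [ih (j + k) rfl]; trivial))


lemma hMapA_add' {M N : X.Modules} (φ ψ : M ⟶ N) (p : ℕ) (x : Coh.HH X M p) :
    hMapA (A := A) (φ + ψ) p x = hMapA (A := A) φ p x + hMapA (A := A) ψ p x := by
  rw [hMapA_apply, hMapA_apply, hMapA_apply]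
  exact (congrArg (fun χ => Sheaf.H.map χ p x) (Functor.map_add _)).trans
    ((congrArg (fun e => Abelian.Ext.comp x e (add_zero p)) (Abelian.Ext.mk₀_add _ _)).trans
      (Abelian.Ext.comp_add ..))

lemma mu_congr {j j' m n : ℕ} (h : n ≤ j + m) (h' : n ≤ j' + m) (a : A) (ha : a ∈ I ^ j) (ha' : a ∈ I ^ j') :
    mu I F h a ha = mu I F h' a ha' :=
  (cancel_mono (idealPowModι I n F)).1 ((mu_ι I F h a ha).trans (mu_ι I F h' a ha').symm)

/-- Multiplication by an element of `I ^ q * I ^ s` gives classes divisible by `I ^ q`. -/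
lemma mu_mem_smul (p : ℕ) {q s m n : ℕ} (h : n ≤ s + m) (b : A) (hb : b ∈ I ^ q * I ^ s)
    (v : Coh.HH X (idealPowMod I m F) p) : ∃ hb' : b ∈ I ^ (q + s),
    hMapA (A := A) (mu I F (le_trans h (Nat.add_le_add_right (Nat.le_add_left s q) m)) b hb') p v ∈
      (I ^ q • ⊤ : Submodule A (Coh.HH X (idealPowMod I n F) p)) := by
  refine Submodule.mul_induction_on hb (fun b₁ h₁ b₂ h₂ => ?_) ?_
  · refine ⟨by rw [pow_add]; exact Ideal.mul_mem_mul h₁ h₂, ?_⟩
    rw [mu_congr I F _ h (b₁ * b₂) _ (Ideal.mul_mem_left _ b₁ h₂), mu_mul I F h b₁ b₂ h₂, ← hMapA_comp,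
      ← FormalProLib.smul_eq_hMap]
    exact Submodule.smul_mem_smul h₁ Submodule.mem_top
  · rintro u w ⟨hu, hu'⟩ ⟨hw, hw'⟩
    refine ⟨add_mem hu hw, ?_⟩
    rw [mu_add I F _ u w hu hw, hMapA_add']
    exact add_mem hu' hw'

lemma mu_incl {j m n n' : ℕ} (hn : n' ≤ n) (h : n ≤ j + m) (b : A) (hb : b ∈ I ^ j) :
    mu I F h b hb ≫ Formal2.idealPowIncl I hn F = mu I F (hn.trans h) b hb := by
  refine (cancel_mono (Formal2.idealPowModι I n' F)).1 ?_
  refine (Category.assoc _ _ _).trans ?_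
  exact (congrArg (fun φ => mu I F h b hb ≫ φ) (kernel.lift_ι _ _ _)).trans
    ((mu_ι I F h b hb).trans (mu_ι I F (hn.trans h) b hb).symm)

/-- The images of the cohomology of smaller powers are small. -/
theorem exists_image_bound [IsNoetherianRing A] [IsProper (X ↘ Spec (CommRingCat.of A))] (hF : Coh.IsCoh F) (p : ℕ) :
    ∃ c : ℕ, ∀ (n m : ℕ), c ≤ n + m →
      Set.range (Sheaf.H.map ((SheafOfModules.toSheaf _).map (Formal2.idealPowIncl I (Nat.le_add_right n m) F)) p) ⊆
        SetLike.coe (I ^ (m - (c - n)) • (⊤ : Submodule A (Coh.HH X (Formal2.idealPowMod I n F) p))) := by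
  obtain ⟨c, hc⟩ := exists_HH_gen I F hF p
  refine ⟨c, fun n m hnm => ?_⟩
  have h1 : n + m = (n + m - c) + c := by omega
  rintro _ ⟨x, rfl⟩
  have hx : x ∈ mulSpan I F p (j := n + m - c) (m := c) (n := n + m) h1.le := by
    rw [hc c le_rfl (n + m - c) (n + m) h1]
    trivial
  have key : mulSpan I F p (j := n + m - c) (m := c) (n := n + m) h1.le ≤
      (I ^ (m - (c - n)) • ⊤ : Submodule A (Coh.HH X (idealPowMod I n F) p)).comap
        (hMapA (A := A) (Formal2.idealPowIncl I (Nat.le_add_right n m) F) p) := by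
    refine Submodule.span_le.2 ?_
    rintro _ ⟨b, hb, v, rfl⟩
    rw [SetLike.mem_coe, Submodule.mem_comap, hMapA_comp, mu_incl]
    have hb2 : b ∈ I ^ (m - (c - n)) * I ^ (n - c) := by
      rw [← pow_add, show (m - (c - n)) + (n - c) = n + m - c by omega]
      exact hb
    obtain ⟨hb', hmem⟩ := mu_mem_smul I F p (by omega : n ≤ n - c + c) b hb2 v
    rw [mu_congr I F ((Nat.le_add_right n m).trans h1.le) _ b hb hb']
    exact hmem
  exact key hx

end GrSysLib

end
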