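import Groth.Agent.GrSysLib.Formal
import Groth.Agent.DevissLib.KilledImm

/-!
# Restriction to the closed subscheme cut out by an ideal of the base
-/

universe u

open CategoryTheory CategoryTheory.Limits AlgebraicGeometry Opposite TopologicalSpace

noncomputable section

namespace GrSysLib

open FormalLib (rhoA secMap Sec smulMod_app)

variable {A : Type u} [CommRing A] {X X' : Scheme.{u}} [X.Over (Spec (CommRingCat.of A))]
  [X'.Over (Spec (CommRingCat.of A))] (i : X' ⟶ X)
  (hw : i ≫ (X ↘ Spec (CommRingCat.of A)) = X' ↘ Spec (CommRingCat.of A))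

include hw in
lemma app_rhoA (U : X.Opens) (a : A) : i.app U (rhoA A U a) = rhoA A (i ⁻¹ᵁ U) a := by
  show i.app U (X.presheaf.map (homOfLE (le_top : U ≤ ⊤)).op (Coh.toGlobal (X ↘ Spec (CommRingCat.of A)) a)) = _
  refine (QCohLib.app_res i le_top _).trans ?_
  refine congrArg (X'.presheaf.map (homOfLE (le_top : i ⁻¹ᵁ U ≤ ⊤)).op) ?_
  show ((X ↘ Spec (CommRingCat.of A)).appTop ≫ i.appTop) ((Scheme.ΓSpecIso (CommRingCat.of A)).inv a) = _
  rw [← Scheme.Hom.comp_appTop]
  refine congrArg (fun g : X' ⟶ Spec (CommRingCat.of A) => g.appTop ((Scheme.ΓSpecIso (CommRingCat.of A)).inv a)) ?_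
  exact hw

include hw in
/-- Multiplication by scalars of the base commutes with direct image. -/
lemma push_smulMod (G : X'.Modules) (a : A) :
    (Scheme.Modules.pushforward i).map (Formal.smulMod A G a) =
      Formal.smulMod A ((Scheme.Modules.pushforward i).obj G) a := by
  refine Scheme.Modules.hom_ext _ _ fun U => ConcreteCategory.hom_ext _ _ fun x => ?_
  show rhoA A (i ⁻¹ᵁ U) a • (show Γ(G, i ⁻¹ᵁ U) from x) = rhoA A U a • x
  rw [QCohLib.push_smul, app_rhoA i hw]

variable (J₁ : Ideal A) (hzero : ∀ b ∈ J₁, Coh.toGlobal (X' ↘ Spec (CommRingCat.of A)) b = 0)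

include hzero in
lemma smulMod_eq_zero (G : X'.Modules) {b : A} (hb : b ∈ J₁) : Formal.smulMod A G b = 0 := by
  refine Scheme.Modules.hom_ext _ _ fun U => ConcreteCategory.hom_ext _ _ fun x => ?_
  show rhoA A U b • x = 0
  have : rhoA A U b = 0 := by
    show (X'.presheaf.map (homOfLE (le_top : U ≤ ⊤)).op).hom (Coh.toGlobal _ b) = 0
    rw [hzero b hb]
    exact map_zero _
  rw [this, zero_smul]

include hw hzero in
lemma smulFamily_unit (F : X.Modules) :
    Formal.smulFamily J₁ F ≫ (Scheme.Modules.pullbackPushforwardAdjunction i).unit.app F = 0 :=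
  FormalProLib.smulFamily_comp _ fun b hb => by
    show Formal.smulMod A F b ≫ _ = 0
    rw [FormalProLib.smulMod_natural]
    refine (congrArg (fun φ => (Scheme.Modules.pullbackPushforwardAdjunction i).unit.app F ≫ φ)
      (push_smulMod i hw ((Scheme.Modules.pullback i).obj F) b).symm).trans ?_
    rw [smulMod_eq_zero J₁ hzero _ hb, Functor.map_zero, comp_zero]

variable [IsClosedImmersion i] (hker : ∀ W : X.affineOpens, i.ker.ideal W ≤ J₁.map (rhoA A W.1))

include hw hzero hker in
/-- `i_* i^* F` is `F / J₁ F`. -/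
theorem isIso_desc_unit (F : X.Modules) [Coh.IsQCoh F] :
    IsIso (cokernel.desc _ ((Scheme.Modules.pullbackPushforwardAdjunction i).unit.app F)
      (smulFamily_unit i hw J₁ hzero F)) := by
  let adj := Scheme.Modules.pullbackPushforwardAdjunction i
  let Q := cokernel (Formal.smulFamily J₁ F)
  let π : F ⟶ Q := cokernel.π _
  have hQ : Coh.IsQCoh Q :=
    have : Coh.IsQCoh (∐ fun _ : ↥J₁ => F) := QCohLib.isQCoh_sigma _ fun _ => ‹_›
    QCohLib.isQCoh_cokernel _
  have hπ : Epi π := coequalizer.π_epi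
  have hk : ClSub.KilledByIdeal i.ker Q := fun W c hc m => by
    obtain ⟨v, rfl⟩ := FormalLib.app_surjective_of_epi F π W.2 (m : Γ(Q, W.1))
    have hc' := hker W hc
    rw [Ideal.map] at hc'
    refine (Submodule.span_le (p := LinearMap.ker ((LinearMap.id : Γ(X, W.1) →ₗ[Γ(X, W.1)] Γ(X, W.1)).smulRight
      (π.app W.1 v : Γ(Q, W.1))))).2 ?_ hc'
    rintro _ ⟨b, hb, rfl⟩
    show rhoA A W.1 b • (π.app W.1 v : Γ(Q, W.1)) = 0
    refine (QCohLib.app_smul π W.1 _ v).symm.trans ?_
    have h := congrArg (fun φ : F ⟶ Q => φ.app W.1 v)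
      ((congrArg (fun φ => φ ≫ π) (Sigma.ι_desc (fun a : ↥J₁ => Formal.smulMod A F (a : A)) ⟨b, hb⟩).symm).trans
        ((Category.assoc _ _ _).trans ((congrArg (fun φ => Sigma.ι (fun _ : ↥J₁ => F) ⟨b, hb⟩ ≫ φ)
          (cokernel.condition (Formal.smulFamily J₁ F))).trans comp_zero)))
    exact h
  have hη : IsIso (adj.unit.app Q) := DevissLib.isIso_unit_of_killed i hk
  let φ : Q ⟶ (Scheme.Modules.pushforward i).obj ((Scheme.Modules.pullback i).obj F) :=
    cokernel.desc _ (adj.unit.app F) (smulFamily_unit i hw J₁ hzero F)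
  have hφ : π ≫ φ = adj.unit.app F := cokernel.π_desc _ _ _
  let ψ := (adj.homEquiv _ _).symm φ
  have h1 : (Scheme.Modules.pullback i).map π ≫ ψ = 𝟙 _ := by
    rw [← Adjunction.homEquiv_naturality_left_symm, hφ]
    exact (adj.homEquiv_symm_unit F).trans rfl
  have : Epi ((Scheme.Modules.pullback i).map π) :=
    have : (Scheme.Modules.pullback i).IsLeftAdjoint := adj.isLeftAdjoint
    inferInstance
  have : Mono ((Scheme.Modules.pullback i).map π) := (SplitMono.mk ψ h1).mono
  have : IsIso ((Scheme.Modules.pullback i).map π) := isIso_of_mono_of_epi _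
  have e : φ = adj.unit.app Q ≫ inv ((Scheme.Modules.pushforward i).map ((Scheme.Modules.pullback i).map π)) := by
    rw [IsIso.eq_comp_inv, ← cancel_epi π, reassoc_of% hφ]
    exact (adj.unit.naturality π).symm
  show IsIso φ
  rw [e]
  infer_instance

include hw hzero hker in
/-- The unit at a quasi-coherent module is an epimorphism. -/
theorem epi_unit (F : X.Modules) [Coh.IsQCoh F] :
    Epi ((Scheme.Modules.pullbackPushforwardAdjunction i).unit.app F) := by
  have hi := isIso_desc_unit i hw J₁ hzero hker F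
  rw [← cokernel.π_desc _ _ (smulFamily_unit i hw J₁ hzero F)]
  exact @epi_comp _ _ _ _ _ _ coequalizer.π_epi _ (@IsIso.epi_of_iso _ _ _ _ _ hi)

end GrSysLib

end
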