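import Groth.Agent.GrSysLib.Adic

/-!
# The kernels of the transition maps of a coherent formal module as a graded system
-/

universe u

open CategoryTheory CategoryTheory.Limits AlgebraicGeometry Opposite TopologicalSpace

noncomputable section

namespace GrSysLib

open FormalLib (secMap smulMod_app Sec smulMod_mul)

variable {A : Type u} [CommRing A] {X : Scheme.{u}} [X.Over (Spec (CommRingCat.of A))]
variable {I : Ideal A} {G : ℕᵒᵖ ⥤ X.Modules} (hG : Formal.IsCohFormal I G)

/-- The transition map `G (n + 1) ⟶ G n`. -/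
abbrev trMap (G : ℕᵒᵖ ⥤ X.Modules) (n : ℕ) : G.obj (op (n + 1)) ⟶ G.obj (op n) :=
  G.map (homOfLE (Nat.le_succ n)).op

include hG

lemma smulFamily_trMap (n : ℕ) : Formal.smulFamily (I ^ (n + 1)) (G.obj (op (n + 1))) ≫ trMap G n = 0 :=
  (hG.2.2 n).1

lemma isIso_desc (n : ℕ) :
    IsIso (cokernel.desc (Formal.smulFamily (I ^ (n + 1)) (G.obj (op (n + 1)))) (trMap G n) (smulFamily_trMap hG n)) :=
  (hG.2.2 n).2

lemma epi_trMap (n : ℕ) : Epi (trMap G n) := by
  have := isIso_desc hG n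
  rw [← cokernel.π_desc _ (trMap G n) (smulFamily_trMap hG n)]
  have : Epi (cokernel.desc _ (trMap G n) (smulFamily_trMap hG n)) := @IsIso.epi_of_iso _ _ _ _ _ (isIso_desc hG n)
  exact @epi_comp _ _ _ _ _ _ coequalizer.π_epi _ this

/-- Multiplication by an element of `I`, from `G n` to `G (n + 1)`. -/
def tau (n : ℕ) (a : A) (ha : a ∈ I) : G.obj (op n) ⟶ G.obj (op (n + 1)) :=
  haveI := isIso_desc hG n
  inv (cokernel.desc _ (trMap G n) (smulFamily_trMap hG n)) ≫
    cokernel.desc _ (Formal.smulMod A (G.obj (op (n + 1))) a) (FormalProLib.smulFamily_comp _ fun b hb => by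
      show Formal.smulMod A _ b ≫ Formal.smulMod A _ a = 0
      rw [← smulMod_mul]
      exact hG.2.1 (n + 1) _ (pow_succ' I (n + 1) ▸ Ideal.mul_mem_mul ha hb))

lemma trMap_tau (n : ℕ) (a : A) (ha : a ∈ I) :
    trMap G n ≫ tau hG n a ha = Formal.smulMod A (G.obj (op (n + 1))) a := by
  have := isIso_desc hG n
  refine Eq.trans (congrArg (fun φ => φ ≫ tau hG n a ha)
    (cokernel.π_desc _ (trMap G n) (smulFamily_trMap hG n)).symm) ?_
  rw [tau, Category.assoc, IsIso.hom_inv_id_assoc, cokernel.π_desc]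

lemma tau_trMap (n : ℕ) (a : A) (ha : a ∈ I) :
    tau hG n a ha ≫ trMap G n = Formal.smulMod A (G.obj (op n)) a := by
  have := epi_trMap hG n
  rw [← cancel_epi (trMap G n), ← Category.assoc, trMap_tau, FormalProLib.smulMod_natural]

lemma tau_comm (n : ℕ) (a b : A) (ha : a ∈ I) (hb : b ∈ I) :
    tau hG n a ha ≫ tau hG (n + 1) b hb = tau hG n b hb ≫ tau hG (n + 1) a ha := by
  have := epi_trMap hG n
  rw [← cancel_epi (trMap G n), ← Category.assoc, trMap_tau, ← Category.assoc, trMap_tau,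
    FormalProLib.smulMod_natural (tau hG (n + 1) b hb), ← trMap_tau hG (n + 1) a ha, ← Category.assoc,
    tau_trMap]

variable {r : ℕ} (a : Fin r → A) (ha : ∀ i, a i ∈ I)

/-- The system of kernels. -/
def kerTrSys : SSys X r where
  C n := kernel (trMap G n)
  t i n := kernel.lift _ (kernel.ι (trMap G n) ≫ tau hG (n + 1) (a i) (ha i)) (by
    rw [Category.assoc, tau_trMap, ← trMap_tau hG n (a i) (ha i), kernel.condition_assoc, zero_comp])
  comm i j n := by
    refine (cancel_mono (kernel.ι (trMap G (n + 1 + 1)))).1 ?_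
    simp only [Category.assoc, kernel.lift_ι, kernel.lift_ι_assoc]
    exact congrArg (fun φ => kernel.ι (trMap G n) ≫ φ) (tau_comm hG (n + 1) _ _ _ _)

omit ha in
lemma ker_secMap_trMap [IsNoetherianRing A] (n : ℕ) {U : X.Opens} (hU : IsAffineOpen U) (x : Sec A (G.obj (op (n + 1))) U) :
    secMap (trMap G n) U x = 0 ↔
      x ∈ (I ^ (n + 1) • ⊤ : Submodule A (Sec A (G.obj (op (n + 1))) U)) := by
  have : Coh.IsQCoh (G.obj (op (n + 1))) := (hG.1 _).1
  have hi := isIso_desc hG n
  rw [← FormalLib.ker_secMap_modPowπ (G.obj (op (n + 1))) I (n + 1) hU, LinearMap.mem_ker,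
    ← cokernel.π_desc _ (trMap G n) (smulFamily_trMap hG n)]
  show (cokernel.desc _ (trMap G n) (smulFamily_trMap hG n)).app U ((Formal.modPowπ I (n + 1) _).app U x) = 0 ↔ _
  constructor
  · intro h
    refine QCohLib.app_injective_of_mono (cokernel.desc _ (trMap G n) (smulFamily_trMap hG n)) U ?_
    exact h.trans (map_zero _).symm
  · intro h
    exact (congrArg _ h).trans (map_zero _)

theorem isGenCoh_kerTrSys [IsNoetherianRing A] [AlgebraicGeometry.IsNoetherian X]
    (hspan : Ideal.span (Set.range a) = I) : (kerTrSys hG a ha).IsGenCoh := by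
  have hcoh : ∀ k, Coh.IsCoh ((kerTrSys hG a ha).C k) := fun k =>
    QCohLib.isCoh_kernel _ (hG.1 _) (hG.1 _).1
  refine ⟨hcoh, 0, fun n _ => ?_⟩
  let 𝒰 := X.affineCover.finiteSubcover
  let U : 𝒰.I₀ → X.Opens := fun j => (𝒰.f j).opensRange
  have hU : ∀ j, IsAffineOpen (U j) := fun j =>
    have : IsAffine (𝒰.X j) := inferInstanceAs (IsAffine (X.affineCover.X _))
    isAffineOpen_opensRange _
  have : Coh.IsQCoh ((kerTrSys hG a ha).C (n + 1)) := (hcoh (n + 1)).1
  refine epi_of_surjective_on_cover _ U hU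
    (fun x => Opens.mem_iSup.1 (𝒰.iSup_opensRange.ge (Opens.mem_top x))) fun j x => ?_
  let M := Sec A (G.obj (op (n + 1 + 1))) (U j)
  let N : Submodule A M := I ^ (n + 1) • ⊤
  have hx : secMap (A := A) (kernel.ι (trMap G (n + 1))) (U j) x ∈ (I • N : Submodule A M) := by
    rw [← mul_smul, ← pow_succ', ← ker_secMap_trMap hG (n + 1) (hU j)]
    exact congrArg (fun φ => φ.app (U j) x) (kernel.condition (trMap G (n + 1)))
  have hsum : ∀ w ∈ (I • N : Submodule A M), ∃ y : Fin r → M, (∀ i, y i ∈ N) ∧ ∑ i, a i • y i = w := by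
    intro w hw
    refine Submodule.smul_induction_on hw (fun c hc v hv => ?_) ?_
    · rw [← hspan, Ideal.span, Submodule.mem_span_range_iff_exists_fun] at hc
      obtain ⟨e, rfl⟩ := hc
      exact ⟨fun i => e i • v, fun i => N.smul_mem _ hv, by
        rw [Finset.sum_smul]; exact Finset.sum_congr rfl fun i _ => by rw [smul_smul, smul_eq_mul, mul_comm]⟩
    · rintro v w ⟨y, hy, rfl⟩ ⟨z, hz, rfl⟩
      exact ⟨y + z, fun i => N.add_mem (hy i) (hz i), by simp [Finset.sum_add_distrib]⟩
  obtain ⟨y, hy, hyx⟩ := hsum _ hx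
  have hS : (ShortComplex.mk _ _ (kernel.condition (trMap G n))).Exact :=
    ShortComplex.exact_of_f_is_kernel _ (kernelIsKernel _)
  have hex : ∀ i, ∃ z : Γ((kerTrSys hG a ha).C n, U j),
      (kernel.ι (trMap G n)).app (U j) z = secMap (trMap G (n + 1)) (U j) (y i) := fun i => by
    have h0 := (ker_secMap_trMap hG n (hU j) _).2
      (FormalLib.map_mem_smul_top (secMap (A := A) (trMap G (n + 1)) (U j)) _ (hy i))
    exact QCohLib.exists_of_app_eq_zero hS (inferInstanceAs (Mono (kernel.ι _))) _ h0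
  choose z hz using hex
  refine ⟨∑ i, (biproduct.ι (fun _ : Fin r => (kerTrSys hG a ha).C n) i).app (U j) (z i), ?_⟩
  refine QCohLib.app_injective_of_mono (kernel.ι (trMap G (n + 1))) (U j) ?_
  refine Eq.trans ?_ hyx
  rw [map_sum]
  refine (map_sum ((kernel.ι (trMap G (n + 1))).app (U j)).hom _ _).trans (Finset.sum_congr rfl fun i _ => ?_)
  refine Eq.trans ?_ ((smulMod_app (G.obj (op (n + 1 + 1))) (a i) (U j) (y i)).trans rfl)
  refine Eq.trans (congrArg (fun φ => φ.app (U j) (z i))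
    ((congrArg (fun φ => φ ≫ kernel.ι (trMap G (n + 1))) ((kerTrSys hG a ha).ι_sumMap i n)).trans
      (kernel.lift_ι _ _ _) : ((biproduct.ι (fun _ : Fin r => (kerTrSys hG a ha).C n) i ≫
      (kerTrSys hG a ha).sumMap n) ≫ kernel.ι (trMap G (n + 1))) =
        kernel.ι (trMap G n) ≫ tau hG (n + 1) (a i) (ha i))) ?_
  refine (congrArg (fun v => (tau hG (n + 1) (a i) (ha i)).app (U j) v) (hz i)).trans ?_
  exact congrArg (fun φ => φ.app (U j) (y i)) (trMap_tau hG (n + 1) (a i) (ha i))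

end GrSysLib

end
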