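import Groth.Agent.GrSysLib.Sheaf
import Groth.Agent.SerreVanLib.Main
import Groth.Agent.HilbPolyLib.Twist

/-!
# Cohomology of eventually generated graded systems of coherent modules on a proper scheme

The cohomology modules form eventually generated systems, and after twisting by a high power of an ample module
the higher cohomology vanishes in all degrees at once.
-/

universe u

open CategoryTheory CategoryTheory.Limits AlgebraicGeometry Opposite TopologicalSpace

noncomputable section

namespace GrSysLib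

open FormalLib (hMapA hMapA_comp hMapA_apply)

variable {X : Scheme.{u}} {r : ℕ}

/-- The induced operators on the images of the last operator. -/
def SSys.imT (S : SSys X (r + 1)) (i : Fin r) (k : ℕ) :
    Abelian.image (S.t (Fin.last r) k) ⟶ Abelian.image (S.t (Fin.last r) (k + 1)) :=
  kernel.map _ _ (S.t i.castSucc (k + 1)) (S.cokSys.t i k) (S.π_cokSys i k)

lemma SSys.imT_ι (S : SSys X (r + 1)) (i : Fin r) (k : ℕ) :
    S.imT i k ≫ Abelian.image.ι (S.t (Fin.last r) (k + 1)) =
      Abelian.image.ι (S.t (Fin.last r) k) ≫ S.t i.castSucc (k + 1) :=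
  kernel.lift_ι _ _ _

/-- The morphism of the sequences `0 → ker → C → im → 0`. -/
def SSys.kerImMap (S : SSys X (r + 1)) (i : Fin r) (k : ℕ) :
    DevissLib.kerImSeq (S.t (Fin.last r) k) ⟶ DevissLib.kerImSeq (S.t (Fin.last r) (k + 1)) :=
  ShortComplex.homMk (S.kerSys.t i k) (S.t i.castSucc k) (S.imT i k) (S.kerSys_ι i k) (by
    refine (cancel_mono (Abelian.image.ι (S.t (Fin.last r) (k + 1)))).1 ?_
    show (S.t i.castSucc k ≫ Abelian.factorThruImage _) ≫ _ = (Abelian.factorThruImage _ ≫ S.imT i k) ≫ _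
    simp only [Category.assoc, Abelian.image.fac, S.imT_ι]
    rw [← Category.assoc, Abelian.image.fac, S.comm])

section Cohomology

variable {A : Type u} [CommRing A] [X.Over (Spec (CommRingCat.of A))]

/-- The operators on cohomology. -/
def tH (A : Type u) [CommRing A] [X.Over (Spec (CommRingCat.of A))] (S : SSys X r) (q : ℕ) :
    Fin r → ∀ k, Coh.HH X (S.C k) q →ₗ[A] Coh.HH X (S.C (k + 1)) q :=
  fun i k => hMapA (S.t i k) q

lemma commOps_tH (S : SSys X r) (q : ℕ) : CommOps (tH A S q) := fun i j k x => by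
  show hMapA (A := A) _ q (hMapA (A := A) _ q x) = hMapA (A := A) _ q (hMapA (A := A) _ q x)
  rw [hMapA_comp, hMapA_comp, S.comm]

variable [IsNoetherianRing A] [IsProper (X ↘ Spec (CommRingCat.of A))]

/-- **Cohomology of an eventually generated system is eventually generated.** -/
theorem gen_HH : ∀ (r : ℕ) (S : SSys X r), S.IsGenCoh → ∀ q, GenOps (tH A S q) := by
  have : IsLocallyNoetherian X := LocallyOfFiniteType.isLocallyNoetherian (X ↘ Spec (CommRingCat.of A))
  have : CompactSpace X := QuasiCompact.compactSpace_of_compactSpace (X ↘ Spec (CommRingCat.of A))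
  have : AlgebraicGeometry.IsNoetherian X := {}
  intro r
  induction r with
  | zero =>
    rintro S ⟨-, d, hd⟩ q
    refine ⟨d, fun k hk x => ⟨fun i => i.elim0, ?_⟩⟩
    have := hd k hk
    have h0 : 𝟙 (S.C (k + 1)) = 0 := by
      refine (cancel_epi (S.sumMap k)).1 ?_
      exact biproduct.hom_ext' _ _ fun i => i.elim0
    rw [Finset.univ_eq_empty, Finset.sum_empty, ← FormalProLib.hMap_id (A := A) _ q x, h0, FormalProLib.hMap_zero]
  | succ r ih =>
    intro S hS q
    have hQ := isGenCoh_cokSys S hS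
    have hK := isGenCoh_kerSys S hS
    have : ∀ k, Module.Finite A (Coh.HH X (S.cokSys.C k) q) := fun k => FormalLib.finite_HH _ (hQ.1 k) q
    have : ∀ k, Module.Finite A (Coh.HH X (S.kerSys.C k) (q + 1)) := fun k =>
      FormalLib.finite_HH _ (hK.1 k) (q + 1)
    let δ : ∀ k, Coh.HH X (Abelian.image (S.t (Fin.last r) k)) q →+ Coh.HH X (S.kerSys.C k) (q + 1) := fun k =>
      AtlasCoh.hδ (QCohLib.toAbF_shortExact (DevissLib.kerImSeq_shortExact (S.t (Fin.last r) k))) q
    refine gen_step (tQ := tH A S.cokSys q) (tK := tH A S.kerSys (q + 1))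
      (tI := fun i k => hMapA (A := A) (S.imT i k) q) (commOps_tH _ _) (ih _ hQ q) (commOps_tH _ _)
      (ih _ hK (q + 1)) (fun k => hMapA (A := A) (cokernel.π (S.t (Fin.last r) k)) q)
      (fun k => hMapA (A := A) (Abelian.image.ι (S.t (Fin.last r) k)) q) δ
      (fun k => LinearMap.ker (hMapA (A := A) (kernel.ι (S.t (Fin.last r) k)) (q + 1))) (fun k x => ?_) (fun i k x => ?_)
      (fun i k x => ?_) (fun i k x => ?_) (fun k x hx => ?_) fun k z hz => ?_
    · refine ⟨fun hx => AtlasCoh.hExact₁ (QCohLib.toAbF_shortExact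
        (DevissLib.kerImSeq_shortExact (S.t (Fin.last r) k))) q x hx, ?_⟩
      rintro ⟨z, rfl⟩
      exact (Abelian.Ext.comp_assoc_of_third_deg_zero ..).trans
        ((congrArg (fun e => Abelian.Ext.comp z e (add_zero (q + 1)))
          (QCohLib.toAbF_shortExact (DevissLib.kerImSeq_shortExact (S.t (Fin.last r) k))).extClass_comp).trans
          (Abelian.Ext.comp_zero ..))
    · exact (hMapA_comp _ _ q x).trans
        ((congrArg (fun φ => hMapA (A := A) φ q x) (S.π_cokSys i k).symm).trans (hMapA_comp _ _ q x).symm)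
    · show hMapA (A := A) _ q (hMapA (A := A) _ q x) = hMapA (A := A) _ q (hMapA (A := A) _ q x)
      rw [hMapA_comp, hMapA_comp, S.imT_ι]
    · exact FormalProLib.hδ_natural'
        (QCohLib.toAbF_shortExact (DevissLib.kerImSeq_shortExact (S.t (Fin.last r) k)))
        (QCohLib.toAbF_shortExact (DevissLib.kerImSeq_shortExact (S.t (Fin.last r) (k + 1))))
        ((QCohLib.toAbF X).mapShortComplex.map (S.kerImMap i k)) q x
    · exact AtlasCoh.hExact₂ (QCohLib.toAbF_shortExact (DevissLib.imCokSeq_shortExact (S.t (Fin.last r) k))) q x hx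
    · obtain ⟨p, rfl⟩ := AtlasCoh.hExact₃
        (QCohLib.toAbF_shortExact (DevissLib.kerImSeq_shortExact (S.t (Fin.last r) k))) q z hz
      refine ⟨p, ?_⟩
      exact (hMapA_comp _ _ q p).trans
        (congrArg (fun φ => hMapA (A := A) φ q p) (Abelian.image.fac (S.t (Fin.last r) k)))

end Cohomology

section Vanishing

variable {R : Type u} [CommRing R] [IsNoetherianRing R] (f : X ⟶ Spec (CommRingCat.of R)) [IsProper f]
variable {L : X.Modules} (hL : PicF.IsInvertible L) (hA : CohB1.IsAmple L)

include f hL hA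

/-- Vanishing for the members up to a given degree. -/
theorem exists_vanishing_le (C : ℕ → X.Modules) (hC : ∀ k, Coh.IsCoh (C k)) (d : ℕ) :
    ∃ n₀, ∀ n, n₀ ≤ n → ∀ k, k ≤ d → ∀ q, 0 < q →
      Subsingleton (Coh.HH X (CohB1.tensorMod (CohB1.tensorPow L n) (C k)) q) := by
  choose m hm using fun k => SerreVanLib.exists_vanishing f hL hA (C k) (hC k)
  refine ⟨(Finset.range (d + 1)).sup m, fun n hn k hk q hq => ?_⟩
  exact SerreVanLib.subsingleton_HH_of_iso (HilbPolyLib.swapIso _ _) q
    (hm k n ((Finset.le_sup (Finset.mem_range.2 (Nat.lt_succ_of_le hk))).trans hn) q hq)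

/-- **Uniform Serre vanishing for an eventually generated system.** -/
theorem exists_uniform_vanishing : ∀ (r : ℕ) (S : SSys X r), S.IsGenCoh →
    ∃ n₀, ∀ n, n₀ ≤ n → ∀ k q, 0 < q →
      Subsingleton (Coh.HH X (CohB1.tensorMod (CohB1.tensorPow L n) (S.C k)) q) := by
  have : IsLocallyNoetherian X := LocallyOfFiniteType.isLocallyNoetherian f
  have : CompactSpace X := QuasiCompact.compactSpace_of_compactSpace f
  have : AlgebraicGeometry.IsNoetherian X := {}
  intro r
  induction r with
  | zero =>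
    rintro S ⟨hcoh, d, hd⟩
    obtain ⟨n₀, hn₀⟩ := exists_vanishing_le f hL hA S.C hcoh d
    refine ⟨n₀, fun n hn k q hq => ?_⟩
    rcases le_or_gt k d with hk | hk
    · exact hn₀ n hn k hk q hq
    · obtain ⟨k, rfl⟩ : ∃ j, k = j + 1 := ⟨k - 1, by omega⟩
      have := hd k (by omega)
      have h0 : 𝟙 (S.C (k + 1)) = 0 := by
        refine (cancel_epi (S.sumMap k)).1 ?_
        exact biproduct.hom_ext' _ _ fun i => i.elim0
      let T := CurvLib.tensorLeft' (CohB1.tensorPow L n) ⋙ QCohLib.toAbF X
      refine ⟨fun x y => ?_⟩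
      have hz : ∀ z : Coh.HH X (CohB1.tensorMod (CohB1.tensorPow L n) (S.C (k + 1))) q, z = 0 := fun z => by
        refine (Sheaf.H.map_id_apply z).symm.trans ?_
        refine (congrArg (fun φ => Sheaf.H.map φ q z) ((T.map_id (S.C (k + 1))).symm.trans (congrArg T.map h0))).trans ?_
        refine (congrArg (fun φ => Sheaf.H.map φ q z) (T.map_zero _ _)).trans ?_
        exact (congrArg (fun e => Abelian.Ext.comp z e (add_zero q)) (Abelian.Ext.mk₀_zero _ _)).trans
          (Abelian.Ext.comp_zero ..)
      rw [hz x, hz y]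
  | succ r ih =>
    intro S hS
    obtain ⟨nK, hK⟩ := ih _ (isGenCoh_kerSys S hS)
    obtain ⟨nQ, hQ⟩ := ih _ (isGenCoh_cokSys S hS)
    obtain ⟨n₀, h0⟩ := exists_vanishing_le f hL hA S.C hS.1 0
    refine ⟨max n₀ (max nK nQ), fun n hn k => ?_⟩
    simp only [max_le_iff] at hn
    have hP : PicF.IsInvertible (CohB1.tensorPow L n) := AmpleThLib.tensorPow_isInvertible hL n
    induction k with
    | zero => exact h0 n hn.1 0 le_rfl
    | succ k ihk =>
      intro q hq
      have h1 := QCohLib.toAbF_shortExact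
        (HilbPolyLib.shortExact_tensor hP (DevissLib.kerImSeq_shortExact (S.t (Fin.last r) k)))
      have h2 := QCohLib.toAbF_shortExact
        (HilbPolyLib.shortExact_tensor hP (DevissLib.imCokSeq_shortExact (S.t (Fin.last r) k)))
      refine ⟨fun x y => ?_⟩
      have hz : ∀ z : Coh.HH X (CohB1.tensorMod (CohB1.tensorPow L n) (S.C (k + 1))) q, z = 0 := fun z => by
        obtain ⟨w, rfl⟩ := AtlasCoh.hExact₂ h2 q z (@Subsingleton.elim _ (hQ n hn.2.2 k q hq) _ _)
        obtain ⟨p, rfl⟩ := AtlasCoh.hExact₃ h1 q w (@Subsingleton.elim _ (hK n hn.2.1 k (q + 1) (by omega)) _ _)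
        have hp : p = 0 := @Subsingleton.elim _ (ihk q hq) _ _
        rw [hp, map_zero]; exact map_zero _
      rw [hz x, hz y]

end Vanishing

end GrSysLib

end
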