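import Mathlib.RingTheory.Polynomial.Basic
import Mathlib.RingTheory.Finiteness.Basic
import Mathlib.Algebra.DirectSum.Module
import Mathlib.RingTheory.Noetherian.Basic
import Mathlib.Algebra.MvPolynomial.Eval

/-!
# Graded systems of modules with `r` commuting operators of degree one

A system is *eventually generated* if in high degrees every element is a sum of images of the operators.
Over a Noetherian ring, subsystems of eventually generated systems of finite modules are eventually generated.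
-/

universe u v

noncomputable section

namespace GrSysLib

open DirectSum

variable {A : Type v} [CommRing A] {r : ℕ}

variable {M : ℕ → Type u} [∀ k, AddCommGroup (M k)] [∀ k, Module A (M k)]
variable {N : ℕ → Type u} [∀ k, AddCommGroup (N k)] [∀ k, Module A (N k)]
variable {Q : ℕ → Type u} [∀ k, AddCommGroup (Q k)] [∀ k, Module A (Q k)]

/-- The operators commute. -/
def CommOps (t : Fin r → ∀ k, M k →ₗ[A] M (k + 1)) : Prop :=
  ∀ i j k x, t i (k + 1) (t j k x) = t j (k + 1) (t i k x)

/-- Eventual generation. -/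
def GenOps (t : Fin r → ∀ k, M k →ₗ[A] M (k + 1)) : Prop :=
  ∃ d, ∀ k, d ≤ k → ∀ x : M (k + 1), ∃ y : Fin r → M k, ∑ i, t i k (y i) = x

section Total

variable (t : Fin r → ∀ k, M k →ₗ[A] M (k + 1))

/-- An operator on the direct sum. -/
def totOp (i : Fin r) : Module.End A (⨁ k, M k) :=
  DirectSum.toModule A ℕ _ fun k => (DirectSum.lof A ℕ M (k + 1)).comp (t i k)

lemma totOp_lof (i : Fin r) (k : ℕ) (x : M k) :
    totOp t i (DirectSum.lof A ℕ M k x) = DirectSum.lof A ℕ M (k + 1) (t i k x) :=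
  DirectSum.toModule_lof A k x

variable {t}

lemma totOp_comm (hc : CommOps t) (i j : Fin r) : totOp t i * totOp t j = totOp t j * totOp t i := by
  refine DirectSum.linearMap_ext A fun k => LinearMap.ext fun x => ?_
  show totOp t i (totOp t j (DirectSum.lof A ℕ M k x)) = totOp t j (totOp t i (DirectSum.lof A ℕ M k x))
  rw [totOp_lof, totOp_lof, totOp_lof, totOp_lof, hc]

lemma exists_aeval (hc : CommOps t) :
    ∃ φ : MvPolynomial (Fin r) A →ₐ[A] Module.End A (⨁ k, M k), ∀ i, φ (MvPolynomial.X i) = totOp t i := by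
  let S := Algebra.adjoin A (Set.range (totOp t))
  have : IsMulCommutative S := Algebra.isMulCommutative_adjoin A (by
    rintro _ ⟨i, rfl⟩ _ ⟨j, rfl⟩
    exact totOp_comm hc i j)
  let g : Fin r → S := fun i => ⟨totOp t i, Algebra.subset_adjoin ⟨i, rfl⟩⟩
  let _ : CommRing S := { (inferInstance : Ring S) with mul_comm := fun a b => mul_comm' a b }
  refine ⟨S.val.comp (MvPolynomial.aeval g), fun i => ?_⟩
  show ((MvPolynomial.aeval g (MvPolynomial.X i) : S) : Module.End A (⨁ k, M k)) = _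
  rw [MvPolynomial.aeval_X]

/-- **Subsystems are eventually generated.** -/
theorem exists_sub_gen [IsNoetherianRing A] [∀ k, Module.Finite A (M k)] (hc : CommOps t) (hg : GenOps t)
    (N : ∀ k, Submodule A (M k)) (hN : ∀ i k x, x ∈ N k → t i k x ∈ N (k + 1)) :
    ∃ d, ∀ k, d ≤ k → N (k + 1) ≤ ⨆ i, (N k).map (t i k) := by
  classical
  obtain ⟨φ, hφ⟩ := exists_aeval hc
  let _ : Module (MvPolynomial (Fin r) A) (⨁ k, M k) := Module.compHom _ φ.toRingHom
  have hX : ∀ i (w : ⨁ k, M k), (MvPolynomial.X i : MvPolynomial (Fin r) A) • w = totOp t i w := fun i w => by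
    show φ (MvPolynomial.X i) w = _
    rw [hφ]
  have hC : ∀ (a : A) (w : ⨁ k, M k), (MvPolynomial.C a : MvPolynomial (Fin r) A) • w = a • w := fun a w => by
    show φ (MvPolynomial.C a) w = _
    rw [← MvPolynomial.algebraMap_eq, AlgHom.commutes]
    rfl
  obtain ⟨d₀, hd₀⟩ := hg
  choose s hs using fun k => (Module.Finite.fg_top (R := A) (M := M k))
  let G : Set (⨁ k, M k) := ⋃ k ∈ Set.Iic d₀, (DirectSum.lof A ℕ M k) '' (s k : Set (M k))
  have hG : G.Finite := Set.Finite.biUnion (Set.finite_Iic d₀) fun k _ => ((s k).finite_toSet).image _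
  let W := Submodule.span (MvPolynomial (Fin r) A) G
  have hW : ∀ k x, DirectSum.lof A ℕ M k x ∈ W := by
    have hsmall : ∀ k, k ≤ d₀ → ∀ x, DirectSum.lof A ℕ M k x ∈ W := fun k hk x => by
      have hx : x ∈ Submodule.span A (s k : Set (M k)) := by rw [hs]; trivial
      induction hx using Submodule.span_induction with
      | mem y hy => exact Submodule.subset_span (Set.mem_biUnion (Set.mem_Iic.2 hk) ⟨y, hy, rfl⟩)
      | zero => rw [map_zero]; exact zero_mem _
      | add y z _ _ hy hz => rw [map_add]; exact add_mem hy hz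
      | smul a y _ hy => rw [map_smul, ← hC]; exact Submodule.smul_mem _ _ hy
    intro k
    induction k with
    | zero => exact hsmall 0 (Nat.zero_le _)
    | succ k ih =>
      intro x
      by_cases hk : k + 1 ≤ d₀
      · exact hsmall _ hk x
      · obtain ⟨y, rfl⟩ := hd₀ k (by omega) x
        rw [map_sum]
        refine sum_mem fun i _ => ?_
        rw [← totOp_lof, ← hX]
        exact Submodule.smul_mem _ _ (ih _)
  have htop : W = ⊤ := top_le_iff.1 fun w _ => by
    induction w using DirectSum.induction_on with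
    | zero => exact zero_mem _
    | of k x => exact hW k x
    | add a b ha hb => exact add_mem (ha trivial) (hb trivial)
  have : Module.Finite (MvPolynomial (Fin r) A) (⨁ k, M k) := ⟨⟨hG.toFinset, by rw [Set.Finite.coe_toFinset]; exact htop⟩⟩
  have : IsNoetherian (MvPolynomial (Fin r) A) (⨁ k, M k) := inferInstance
  let S : ℕ →o Submodule (MvPolynomial (Fin r) A) (⨁ k, M k) :=
    ⟨fun d => Submodule.span _ (⋃ k ∈ Set.Iic d, (DirectSum.lof A ℕ M k) '' (N k : Set (M k))),
      fun a b hab => Submodule.span_mono (Set.biUnion_subset_biUnion_left (Set.Iic_subset_Iic.2 hab))⟩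
  obtain ⟨d, hd⟩ := monotone_stabilizes_iff_noetherian.2 this S
  let N' : ∀ k, Submodule A (M k) := fun k => Nat.rec (N 0)
    (fun k P => if k + 1 ≤ d then N (k + 1) else ⨆ i, P.map (t i k)) k
  have hN'succ : ∀ k, N' (k + 1) = if k + 1 ≤ d then N (k + 1) else ⨆ i, (N' k).map (t i k) := fun k => rfl
  have hle : ∀ k, N' k ≤ N k := by
    intro k
    induction k with
    | zero => exact le_rfl
    | succ k ih =>
      rw [hN'succ]
      split
      · exact le_rfl
      · exact iSup_le fun i => Submodule.map_le_iff_le_comap.2 fun x hx => hN i k x (ih hx)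
  have heq : ∀ k, k ≤ d → N' k = N k := by
    intro k hk
    cases k with
    | zero => rfl
    | succ k => rw [hN'succ, if_pos hk]
  have hN' : ∀ i k x, x ∈ N' k → t i k x ∈ N' (k + 1) := fun i k x hx => by
    rw [hN'succ]
    split
    · exact hN i k x (hle k hx)
    · exact Submodule.mem_iSup_of_mem i (Submodule.mem_map_of_mem hx)
  have hT0 : ∀ i (w : ⨁ k, M k), totOp t i w 0 = 0 ∧ ∀ k, totOp t i w (k + 1) = t i k (w k) := fun i w => by
    induction w using DirectSum.induction_on with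
    | zero => exact ⟨by simp, fun k => by simp⟩
    | of j x =>
      rw [← DirectSum.lof_eq_of A, totOp_lof]
      refine ⟨DirectSum.of_eq_of_ne _ _ _ (by omega), fun k => ?_⟩
      by_cases hjk : j = k
      · subst hjk
        rw [DirectSum.lof_apply, DirectSum.lof_apply]
      · rw [DirectSum.lof_eq_of, DirectSum.lof_eq_of, DirectSum.of_eq_of_ne _ _ _ (by omega),
          DirectSum.of_eq_of_ne _ _ _ (Ne.symm hjk), map_zero]
    | add a b ha hb =>
      refine ⟨by rw [map_add, DirectSum.add_apply, ha.1, hb.1, add_zero], fun k => ?_⟩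
      rw [map_add, DirectSum.add_apply, ha.2, hb.2, DirectSum.add_apply, map_add]
  let U : Submodule A (⨁ k, M k) := ⨅ k, (N' k).comap (DirectSum.component A ℕ M k)
  have hU : ∀ (w : ⨁ k, M k), w ∈ U ↔ ∀ k, w k ∈ N' k := fun w => by
    simp only [U, Submodule.mem_iInf, Submodule.mem_comap]; rfl
  have hUX : ∀ (p : MvPolynomial (Fin r) A) (w : ⨁ k, M k), w ∈ U → p • w ∈ U := fun p => by
    induction p using MvPolynomial.induction_on with
    | C a => exact fun w hw => by rw [hC]; exact U.smul_mem a hw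
    | add p q hp hq => exact fun w hw => by rw [add_smul]; exact U.add_mem (hp w hw) (hq w hw)
    | mul_X p i hp =>
      intro w hw
      rw [mul_smul]
      refine hp _ ((hU _).2 fun k => ?_)
      rw [hX]
      cases k with
      | zero => rw [(hT0 i w).1]; exact zero_mem _
      | succ k => rw [(hT0 i w).2 k]; exact hN' i k _ ((hU w).1 hw k)
  have hSU : ∀ w ∈ S d, w ∈ U := fun w hw => by
    induction hw using Submodule.span_induction with
    | mem y hy =>
      obtain ⟨k, hk, x, hx, rfl⟩ := Set.mem_iUnion₂.1 hy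
      refine (hU _).2 fun j => ?_
      by_cases hjk : k = j
      · subst hjk
        rw [DirectSum.lof_apply, heq k hk]
        exact hx
      · rw [DirectSum.lof_eq_of, DirectSum.of_eq_of_ne _ _ _ (Ne.symm hjk)]
        exact zero_mem _
    | zero => exact U.zero_mem
    | add y z _ _ hy hz => exact U.add_mem hy hz
    | smul p y _ hy => exact hUX p y hy
  refine ⟨d, fun k hk x hx => ?_⟩
  have hmem : DirectSum.lof A ℕ M (k + 1) x ∈ S (k + 1) :=
    Submodule.subset_span (Set.mem_biUnion (Set.mem_Iic.2 le_rfl) ⟨x, hx, rfl⟩)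
  rw [← hd (k + 1) (by omega)] at hmem
  have hx' := (hU _).1 (hSU _ hmem) (k + 1)
  rw [DirectSum.lof_apply, hN'succ, if_neg (by omega)] at hx'
  exact (iSup_mono fun i => Submodule.map_mono (hle k)) hx'

end Total

variable {t : Fin r → ∀ k, M k →ₗ[A] M (k + 1)} {tN : Fin r → ∀ k, N k →ₗ[A] N (k + 1)}

/-- Subsystems given by injective maps. -/
theorem gen_of_injective [IsNoetherianRing A] [∀ k, Module.Finite A (M k)] (hc : CommOps t) (hg : GenOps t)
    (f : ∀ k, N k →ₗ[A] M k) (hf : ∀ k, Function.Injective (f k))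
    (hnat : ∀ i k x, f (k + 1) (tN i k x) = t i k (f k x)) : GenOps tN := by
  obtain ⟨d, hd⟩ := exists_sub_gen hc hg (fun k => LinearMap.range (f k)) (by
    rintro i k _ ⟨y, rfl⟩
    exact ⟨tN i k y, hnat i k y⟩)
  refine ⟨d, fun k hk x => ?_⟩
  obtain ⟨w, hw, hwx⟩ := (Submodule.mem_iSup_iff_exists_finsupp _ _).1 (hd k hk (LinearMap.mem_range_self (f (k + 1)) x))
  choose z hz hz' using fun i => Submodule.mem_map.1 (hw i)
  choose y hy using fun i => LinearMap.mem_range.1 (hz i)
  refine ⟨y, hf (k + 1) ?_⟩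
  rw [map_sum, ← hwx, Finsupp.sum_fintype _ _ (fun _ => rfl)]
  exact Finset.sum_congr rfl fun i _ => by rw [hnat, hy, hz']

/-- The step of the induction on the number of operators. -/
theorem gen_step [IsNoetherianRing A] {P : ℕ → Type u} [∀ k, AddCommGroup (P k)] [∀ k, Module A (P k)]
    {I : ℕ → Type u} [∀ k, AddCommGroup (I k)] [∀ k, Module A (I k)]
    {K : ℕ → Type u} [∀ k, AddCommGroup (K k)] [∀ k, Module A (K k)]
    [∀ k, Module.Finite A (Q k)] [∀ k, Module.Finite A (K k)]
    {tP : Fin (r + 1) → ∀ k, P k →ₗ[A] P (k + 1)} {tI : Fin r → ∀ k, I k →ₗ[A] I (k + 1)}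
    {tQ : Fin r → ∀ k, Q k →ₗ[A] Q (k + 1)} {tK : Fin r → ∀ k, K k →ₗ[A] K (k + 1)}
    (hQc : CommOps tQ) (hQg : GenOps tQ) (hKc : CommOps tK) (hKg : GenOps tK)
    (g : ∀ k, P (k + 1) →ₗ[A] Q k) (f : ∀ k, I k →ₗ[A] P (k + 1)) (δ : ∀ k, I k →+ K k)
    (D : ∀ k, Submodule A (K k)) (hD : ∀ k x, x ∈ D k ↔ ∃ z, δ k z = x)
    (hg : ∀ i k x, g (k + 1) (tP (Fin.castSucc i) (k + 1) x) = tQ i k (g k x))
    (hf : ∀ i k x, f (k + 1) (tI i k x) = tP (Fin.castSucc i) (k + 1) (f k x))
    (hδ : ∀ i k x, δ (k + 1) (tI i k x) = tK i k (δ k x))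
    (hex : ∀ k x, g k x = 0 → ∃ z, f k z = x)
    (hex' : ∀ k z, δ k z = 0 → ∃ p, f k z = tP (Fin.last r) k p) : GenOps tP := by
  obtain ⟨d₁, hd₁⟩ := exists_sub_gen hQc hQg (fun k => LinearMap.range (g k)) (by
    rintro i k _ ⟨y, rfl⟩
    exact ⟨_, hg i k y⟩)
  obtain ⟨d₂, hd₂⟩ := exists_sub_gen hKc hKg D (by
    intro i k x hx
    obtain ⟨z, rfl⟩ := (hD k x).1 hx
    exact (hD _ _).2 ⟨_, hδ i k z⟩)
  refine ⟨max d₁ d₂ + 1, fun k hk x => ?_⟩
  obtain ⟨k, rfl⟩ : ∃ j, k = j + 1 := ⟨k - 1, by omega⟩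
  obtain ⟨w, hw, hwx⟩ := (Submodule.mem_iSup_iff_exists_finsupp _ _).1
    (hd₁ k (by omega) (LinearMap.mem_range_self (g (k + 1)) x))
  choose q hq hq' using fun i => Submodule.mem_map.1 (hw i)
  choose y hy using fun i => LinearMap.mem_range.1 (hq i)
  have h0 : g (k + 1) (x - ∑ i, tP (Fin.castSucc i) (k + 1) (y i)) = 0 := by
    rw [map_sub, map_sum, ← hwx, Finsupp.sum_fintype _ _ (fun _ => rfl), sub_eq_zero]
    exact Finset.sum_congr rfl fun i _ => by rw [hg, hy, hq']
  obtain ⟨z, hz⟩ := hex _ _ h0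
  obtain ⟨w', hw', hwz⟩ := (Submodule.mem_iSup_iff_exists_finsupp _ _).1
    (hd₂ k (by omega) ((hD _ _).2 ⟨z, rfl⟩))
  choose c hc hc' using fun i => Submodule.mem_map.1 (hw' i)
  choose zz hzz using fun i => (hD _ _).1 (hc i)
  have h1 : δ (k + 1) (z - ∑ i, tI i k (zz i)) = 0 := by
    rw [map_sub, map_sum, ← hwz, Finsupp.sum_fintype _ _ (fun _ => rfl), sub_eq_zero]
    exact Finset.sum_congr rfl fun i _ => by rw [hδ, hzz, hc']
  obtain ⟨p, hp⟩ := hex' _ _ h1
  rw [map_sub, map_sum, hz] at hp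
  refine ⟨Fin.snoc (α := fun _ => P (k + 1)) (fun i => y i + f k (zz i)) p, ?_⟩
  rw [Fin.sum_univ_castSucc]
  simp only [Fin.snoc_castSucc, Fin.snoc_last, map_add, Finset.sum_add_distrib, ← hp, ← hf]
  abel

end GrSysLib

end
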