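import Groth.Agent.GrSysLib.Step
import Groth.Agent.FComplLib.Thicken
import Groth.Prelude.Def_CohB1

/-!
# An adic system of thickenings
-/

universe u

open CategoryTheory CategoryTheory.Limits AlgebraicGeometry Opposite TopologicalSpace

noncomputable section

namespace GrSysLib

open FormalLib (rhoA)

variable {A : Type u} [CommRing A]

/-- An adic system over the quotients by the powers of `J`, with proper level zero. -/
structure Thick (A : Type u) [CommRing A] (J : Ideal A) where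
  X : ℕ → Scheme.{u}
  p : (k : ℕ) → (X k ⟶ Spec (CommRingCat.of (A ⧸ J ^ (k + 1))))
  i : (k : ℕ) → (X k ⟶ X (k + 1))
  cart : ∀ k, IsPullback (i k) (p k) (p (k + 1)) (CohB1.specQuotTrans J k)
  proper : IsProper (p 0)

variable {J : Ideal A} (T : Thick A J)

instance overA (k : ℕ) : (T.X k).Over (Spec (CommRingCat.of A)) :=
  ⟨T.p k ≫ CohB1.specQuot J k⟩

lemma over_def (k : ℕ) : (T.X k ↘ Spec (CommRingCat.of A)) = T.p k ≫ CohB1.specQuot J k := rfl

/-- The transition maps between the bases. -/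
def qmap (J : Ideal A) {l k : ℕ} (h : l ≤ k) :
    Spec (CommRingCat.of (A ⧸ J ^ (l + 1))) ⟶ Spec (CommRingCat.of (A ⧸ J ^ (k + 1))) :=
  Spec.map (CommRingCat.ofHom (Ideal.Quotient.factor (Ideal.pow_le_pow_right (Nat.add_le_add_right h 1))))

lemma qmap_specQuot {l k : ℕ} (h : l ≤ k) : qmap J h ≫ CohB1.specQuot J k = CohB1.specQuot J l := by
  simp only [qmap, CohB1.specQuot, ← Spec.map_comp, ← CommRingCat.ofHom_comp]
  rfl

lemma surjective_qmap_ring {l k : ℕ} (h : l ≤ k) :
    Function.Surjective (Ideal.Quotient.factor (Ideal.pow_le_pow_right (I := J) (Nat.add_le_add_right h 1))) :=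
  Ideal.Quotient.factor_surjective _

instance isClosedImmersion_qmap {l k : ℕ} (h : l ≤ k) : IsClosedImmersion (qmap J h) :=
  IsClosedImmersion.spec_of_surjective _ (surjective_qmap_ring h)

section Square

variable {l k : ℕ} (h : l ≤ k) (g : T.X l ⟶ T.X k) (sq : IsPullback g (T.p l) (T.p k) (qmap J h))

include sq in
lemma isClosedImmersion_sq : IsClosedImmersion g := FComplLib.isClosedImmersion_of_isPullback sq

include sq in
lemma comp_over : g ≫ (T.X k ↘ Spec (CommRingCat.of A)) = T.X l ↘ Spec (CommRingCat.of A) := by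
  rw [over_def, over_def, ← Category.assoc, sq.w, Category.assoc, qmap_specQuot]

lemma toGlobal_over (b : A) : Coh.toGlobal (T.X k ↘ Spec (CommRingCat.of A)) b =
    (T.p k).appTop ((Scheme.ΓSpecIso (CommRingCat.of (A ⧸ J ^ (k + 1)))).inv (Ideal.Quotient.mk (J ^ (k + 1)) b)) := by
  show (T.p k ≫ CohB1.specQuot J k).appTop ((Scheme.ΓSpecIso (CommRingCat.of A)).inv b) = _
  rw [Scheme.Hom.comp_appTop]
  refine congrArg (T.p k).appTop ?_
  exact (ConcreteCategory.congr_hom (Scheme.ΓSpecIso_inv_naturality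
    (CommRingCat.ofHom (Ideal.Quotient.mk (J ^ (k + 1))))) b).symm

lemma toGlobal_eq_zero (l : ℕ) {b : A} (hb : b ∈ J ^ (l + 1)) :
    Coh.toGlobal (T.X l ↘ Spec (CommRingCat.of A)) b = 0 := by
  rw [toGlobal_over, Ideal.Quotient.eq_zero_iff_mem.2 hb, map_zero, map_zero]
  rfl

include sq in
lemma ker_le [IsClosedImmersion g] (W : (T.X k).affineOpens) :
    g.ker.ideal W ≤ (J ^ (l + 1)).map (rhoA A W.1) := by
  obtain ⟨-, hk, -⟩ := FComplLib.chart sq ⟨⊤, isAffineOpen_top _⟩ W le_top
  rw [Scheme.Hom.ker_apply, hk, Ideal.map_le_iff_le_comap]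
  intro x hx
  rw [Scheme.Hom.ker_apply, RingHom.mem_ker] at hx
  obtain ⟨y, rfl⟩ := (ConcreteCategory.bijective_of_isIso
    (Scheme.ΓSpecIso (CommRingCat.of (A ⧸ J ^ (k + 1)))).inv).2 x
  obtain ⟨b, rfl⟩ := Ideal.Quotient.mk_surjective y
  have hn := ConcreteCategory.congr_hom (Scheme.ΓSpecIso_inv_naturality
    (CommRingCat.ofHom (Ideal.Quotient.factor (Ideal.pow_le_pow_right (I := J) (Nat.add_le_add_right h 1)))))
    (Ideal.Quotient.mk (J ^ (k + 1)) b)
  have h0 : Ideal.Quotient.mk (J ^ (l + 1)) b = 0 := by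
    refine (ConcreteCategory.bijective_of_isIso (Scheme.ΓSpecIso (CommRingCat.of (A ⧸ J ^ (l + 1)))).inv).1 ?_
    exact (hn.trans hx).trans (map_zero _).symm
  rw [Ideal.mem_comap]
  refine Eq.mpr ?_ (Ideal.mem_map_of_mem (rhoA A W.1) (Ideal.Quotient.eq_zero_iff_mem.1 h0))
  refine congrArg (fun v => v ∈ _) ?_
  show (T.p k).appLE ⊤ W.1 le_top _ = (T.X k).presheaf.map (homOfLE le_top).op
    (Coh.toGlobal (T.X k ↘ Spec (CommRingCat.of A)) b)
  rw [toGlobal_over]
  rfl

end Square

/-- The closed immersion of level zero. -/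
def toLvl : ∀ k, T.X 0 ⟶ T.X k
  | 0 => 𝟙 _
  | k + 1 => toLvl k ≫ T.i k

lemma toLvl_succ (k : ℕ) : toLvl T (k + 1) = toLvl T k ≫ T.i k := rfl

lemma sq_i (k : ℕ) : IsPullback (T.i k) (T.p k) (T.p (k + 1)) (qmap J (Nat.le_succ k)) := T.cart k

lemma qmap_refl (J : Ideal A) (k : ℕ) : qmap J (le_refl k) = 𝟙 _ := by
  rw [qmap, ← Spec.map_id]
  exact congrArg Spec.map (CommRingCat.hom_ext (Ideal.Quotient.ringHom_ext rfl))

lemma qmap_comp (J : Ideal A) {l m k : ℕ} (h : l ≤ m) (h' : m ≤ k) :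
    qmap J h ≫ qmap J h' = qmap J (h.trans h') := by
  simp only [qmap, ← Spec.map_comp, ← CommRingCat.ofHom_comp, Ideal.Quotient.factor_comp]

lemma sq_toLvl (k : ℕ) : IsPullback (toLvl T k) (T.p 0) (T.p k) (qmap J (Nat.zero_le k)) := by
  induction k with
  | zero =>
    rw [qmap_refl]
    have : IsIso (toLvl T 0) := inferInstanceAs (IsIso (𝟙 (T.X 0)))
    exact IsPullback.of_horiz_isIso ⟨(Category.id_comp (T.p 0)).trans (Category.comp_id (T.p 0)).symm⟩
  | succ k ih =>
    rw [← qmap_comp J (Nat.zero_le k) (Nat.le_succ k)]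
    exact ih.paste_horiz (sq_i T k)

instance isClosedImmersion_i (k : ℕ) : IsClosedImmersion (T.i k) := isClosedImmersion_sq T _ _ (sq_i T k)

instance isClosedImmersion_toLvl (k : ℕ) : IsClosedImmersion (toLvl T k) :=
  isClosedImmersion_sq T _ _ (sq_toLvl T k)

section Noetherian

variable [IsNoetherianRing A]

theorem isProper_p : ∀ k, IsProper (T.p k)
  | 0 => T.proper
  | k + 1 => by
    have := isProper_p k
    have : Surjective (qmap J (Nat.le_succ k)) := by
      refine ⟨fun P => ?_⟩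
      refine ((range_comap_of_surjective _ _ (surjective_qmap_ring (J := J) (Nat.le_succ k))).ge ?_ : _)
      intro x hx
      obtain ⟨b, rfl⟩ := Ideal.Quotient.mk_surjective x
      have hb : b ∈ J ^ (k + 1) := Ideal.Quotient.eq_zero_iff_mem.1 (show Ideal.Quotient.mk (J ^ (k + 1)) b = 0 from hx)
      refine P.isPrime.mem_of_pow_mem 2 ?_
      rw [← map_pow, Ideal.Quotient.eq_zero_iff_mem.2]
      · exact zero_mem _
      · exact Ideal.pow_le_pow_right (show k + 1 + 1 ≤ (k + 1) * 2 by omega)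
          (pow_mul J (k + 1) 2 ▸ Ideal.pow_mem_pow hb 2)
    exact FComplLib.isProper_of_thickening (sq_i T k)

instance isProper_over (k : ℕ) : IsProper (T.X k ↘ Spec (CommRingCat.of A)) := by
  have := isProper_p T k
  have : IsClosedImmersion (CohB1.specQuot J k) := IsClosedImmersion.spec_of_surjective _ Ideal.Quotient.mk_surjective
  rw [over_def]
  infer_instance

instance isNoetherian_X (k : ℕ) : AlgebraicGeometry.IsNoetherian (T.X k) :=
  haveI : IsLocallyNoetherian (T.X k) :=
    LocallyOfFiniteType.isLocallyNoetherian (T.X k ↘ Spec (CommRingCat.of A))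
  haveI : CompactSpace (T.X k) := QuasiCompact.compactSpace_of_compactSpace (T.X k ↘ Spec (CommRingCat.of A))
  {}

end Noetherian

end GrSysLib

end
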